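import Cfsg.Agent.Lib.BaseTwo.Basic
/-
Orders of odd completely reducible linear groups of tiny degree.
-/
set_option autoImplicit false

namespace CfsgLib.BaseTwo

variable {G W : Type*} [Group G] [Finite G] [AddCommGroup W] [Finite W] [DistribMulAction G W]
  [FaithfulSMul G W]

omit [Finite G] in
theorem card_dvd_GL {p k : ℕ} [hp : Fact p.Prime] (hWp : ∀ w : W, p • w = 0)
    (hcard : Nat.card W = p ^ k) : Nat.card G ∣ ∏ i : Fin k, (p ^ k - p ^ (i : ℕ)) := by
  let : Module (ZMod p) W := AddCommGroup.zmodModule (n := p) (G := W) hWp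
  have : Fintype W := Fintype.ofFinite W
  have hk : Module.finrank (ZMod p) W = k := by
    have := Module.card_eq_pow_finrank (K := ZMod p) (V := W)
    rw [← Nat.card_eq_fintype_card, hcard, ZMod.card] at this
    exact (Nat.pow_right_injective hp.out.two_le this).symm

  let b : Module.Basis (Fin k) (ZMod p) W :=
    (Module.finBasis (ZMod p) W).reindex (finCongr hk)
  let f : G →* Module.End (ZMod p) W :=
    { toFun := fun g => (DistribSMul.toAddMonoidHom W g).toZModLinearMap p
      map_one' := LinearMap.ext fun w => one_smul G w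
      map_mul' := fun g h => LinearMap.ext fun w => mul_smul g h w }
  let φ : G →* GL (Fin k) (ZMod p) :=
    ((Units.mapEquiv (LinearMap.toMatrixAlgEquiv b).toRingEquiv.toMulEquiv).toMonoidHom).comp f.toHomUnits
  have hinj : Function.Injective φ := by
    intro g h hgh
    have h1 : f.toHomUnits g = f.toHomUnits h :=
      (Units.mapEquiv (LinearMap.toMatrixAlgEquiv b).toRingEquiv.toMulEquiv).injective hgh
    exact FaithfulSMul.eq_of_smul_eq_smul fun w => congrArg (fun l : Module.End (ZMod p) W => l w)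
      (congrArg Units.val h1)
  have := Subgroup.card_dvd_of_injective φ hinj
  rwa [Matrix.card_GL_field, ZMod.card] at this

/-- if the only possible number of Sylow subgroups is one, the characteristic does not divide the order -/
theorem not_dvd_card_of_isCR {p : ℕ} [hp : Fact p.Prime] (hW : IsCR G W) (hWp : ∀ w : W, p • w = 0)
    (honly : ∀ d, d ∣ Nat.card G → d % p = 1 → d = 1) : ¬ p ∣ Nat.card G := by
  intro hdvd
  obtain ⟨P⟩ := (inferInstance : Nonempty (Sylow p G))
  have h1 : Nat.card (Sylow p G) = 1 := honly _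
    (P.card_dvd_index.trans (Subgroup.index_dvd_card _))
    (by have := card_sylow_modEq_one p G
        rwa [Nat.ModEq, Nat.one_mod_eq_one.mpr hp.out.ne_one] at this)
  have : Subsingleton (Sylow p G) := (Nat.card_eq_one_iff_unique.mp h1).1
  have : (P : Subgroup G).Normal := Sylow.normal_of_subsingleton P
  have hfix := fixes_of_normal_pGroup hW hWp (P : Subgroup G) P.2
  refine P.ne_bot_of_dvd_card hdvd ((Subgroup.eq_bot_iff_forall _).mpr fun g hg => ?_)
  exact FaithfulSMul.eq_of_smul_eq_smul fun w => (hfix g hg w).trans (one_smul G w).symm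

omit [Group G] [Finite G] in
theorem dvd_fifteen_case (hodd : Odd (Nat.card G)) (h : Nat.card G ∣ 480) : Nat.card G ∣ 15 :=
  (Nat.Coprime.dvd_mul_left (show Nat.Coprime (Nat.card G) 32 from
    (Nat.coprime_two_right.mpr hodd).pow_right 5)).mp (by simpa using h)

theorem card_le_of_nine (hodd : Odd (Nat.card G)) (hW : IsCR G W) (hWp : ∀ w : W, 3 • w = 0)
    (hcard : Nat.card W = 9) : Nat.card G = 1 := by
  have : Fact (Nat.Prime 3) := ⟨by norm_num⟩
  have h := card_dvd_GL (G := G) (p := 3) (k := 2) hWp hcard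
  have h3 : Nat.card G ∣ 3 := (Nat.Coprime.dvd_mul_left (show Nat.Coprime (Nat.card G) 16 from
    (Nat.coprime_two_right.mpr hodd).pow_right 4)).mp (by simpa [Fin.prod_univ_two] using h)
  have hnd := not_dvd_card_of_isCR (G := G) hW hWp (fun d hd hd1 => by
    have := Nat.le_of_dvd (by norm_num) (hd.trans h3); interval_cases d <;> simp_all)
  rcases (Nat.dvd_prime (by norm_num)).mp h3 with h' | h'
  · exact h'
  · exact absurd (h' ▸ dvd_refl _) hnd

theorem card_le_of_twentyfive (hodd : Odd (Nat.card G)) (hW : IsCR G W) (hWp : ∀ w : W, 5 • w = 0)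
    (hcard : Nat.card W = 25) : Nat.card G ≤ 3 := by
  have : Fact (Nat.Prime 5) := ⟨by norm_num⟩
  have h := card_dvd_GL (G := G) (p := 5) (k := 2) hWp hcard
  have h15 : Nat.card G ∣ 15 := dvd_fifteen_case hodd (by simpa [Fin.prod_univ_two] using h)
  have hnd := not_dvd_card_of_isCR (G := G) hW hWp (fun d hd hd1 => by
    have := Nat.le_of_dvd (by norm_num) (hd.trans h15); have := hd.trans h15
    interval_cases d <;> simp_all)
  exact Nat.le_of_dvd (by norm_num) ((Nat.Coprime.dvd_mul_left
    ((Nat.Prime.coprime_iff_not_dvd (by norm_num)).mpr hnd).symm).mp (h15 : Nat.card G ∣ 5 * 3))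

theorem card_le_of_fortynine (hodd : Odd (Nat.card G)) (hW : IsCR G W) (hWp : ∀ w : W, 7 • w = 0)
    (hcard : Nat.card W = 49) : Nat.card G ≤ 9 := by
  have : Fact (Nat.Prime 7) := ⟨by norm_num⟩
  have h := card_dvd_GL (G := G) (p := 7) (k := 2) hWp hcard
  have h63 : Nat.card G ∣ 63 := (Nat.Coprime.dvd_mul_left (show Nat.Coprime (Nat.card G) 32 from
    (Nat.coprime_two_right.mpr hodd).pow_right 5)).mp (by simpa [Fin.prod_univ_two] using h)
  have hnd := not_dvd_card_of_isCR (G := G) hW hWp (fun d hd hd1 => by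
    have := Nat.le_of_dvd (by norm_num) (hd.trans h63); have := hd.trans h63
    interval_cases d <;> simp_all)
  exact Nat.le_of_dvd (by norm_num) ((Nat.Coprime.dvd_mul_left
    ((Nat.Prime.coprime_iff_not_dvd (by norm_num)).mpr hnd).symm).mp (h63 : Nat.card G ∣ 7 * 9))

omit [FaithfulSMul G W] in
/-- fixed points of an element of prime order on an invariant subgroup -/
theorem card_fixed_modEq {p : ℕ} [Fact p.Prime] (t : G) (ht : orderOf t = p)
    (U : AddSubgroup W) (hU : ∀ x ∈ U, t • x ∈ U) :
    Nat.card U ≡ Nat.card {x : W // x ∈ U ∧ t • x = x} [MOD p] := by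
  have hU' : ∀ g : Subgroup.zpowers t, ∀ x ∈ U, g • x ∈ U := by
    rintro ⟨g, hg⟩ x hx
    obtain ⟨n, rfl⟩ := (isOfFinOrder_of_finite t).mem_powers_iff_mem_zpowers.mpr hg
    change t ^ n • x ∈ U
    clear hg
    induction n with
    | zero => rwa [pow_zero, one_smul]
    | succ n ih => rw [pow_succ', mul_smul]; exact hU _ ih
  let : DistribMulAction (Subgroup.zpowers t) U := subAction U hU'
  have hP : IsPGroup p (Subgroup.zpowers t) :=
    IsPGroup.of_card (n := 1) (by rw [Nat.card_zpowers, ht, pow_one])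
  refine (hP.card_modEq_card_fixedPoints U).trans (congrArg (· % p) (Nat.card_congr ?_))
  exact
    { toFun := fun x => ⟨x.1, x.1.2, congrArg Subtype.val (x.2 ⟨t, Subgroup.mem_zpowers t⟩)⟩
      invFun := fun x => ⟨⟨x.1, x.2.1⟩, fun g => by
        obtain ⟨g, n, rfl⟩ := g
        exact Subtype.ext (Subgroup.zpow_mem (MulAction.stabilizer G x.1) x.2.2 n)⟩
      left_inv := fun _ => rfl
      right_inv := fun _ => rfl }

/-- order thirteen is impossible in dimension four over three elements when a form is preserved -/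
theorem not_thirteen_dvd (hWp : ∀ w : W, 3 • w = 0) (hcard : Nat.card W = 81)
    (hperp : ∀ f : W, f ≠ 0 → ∃ U : AddSubgroup W, Nat.card U = 27 ∧ f ∈ U ∧
      ∀ g : G, g • f = f → ∀ x ∈ U, g • x ∈ U) : ¬ 13 ∣ Nat.card G := by
  intro hd
  have : Fact (Nat.Prime 13) := ⟨by norm_num⟩
  have : Fact (Nat.Prime 3) := ⟨by norm_num⟩
  obtain ⟨t, ht⟩ := exists_prime_orderOf_dvd_card' 13 hd
  let F : AddSubgroup W :=
    { carrier := {w | t • w = w}
      zero_mem' := smul_zero t
      add_mem' := fun {a b} (ha : t • a = a) (hb : t • b = b) => by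
        show t • (a + b) = a + b
        rw [smul_add, ha, hb]
      neg_mem' := fun {a} (ha : t • a = a) => by show t • -a = -a; rw [smul_neg, ha] }
  have htop : Nat.card (⊤ : AddSubgroup W) = 81 := by
    rw [← hcard]; exact Nat.card_congr AddSubgroup.topEquiv.toEquiv
  have h1 := card_fixed_modEq (W := W) t ht ⊤ (fun _ _ => trivial)
  have hFc : Nat.card {x : W // x ∈ (⊤ : AddSubgroup W) ∧ t • x = x} = Nat.card F :=
    Nat.card_congr (Equiv.subtypeEquivRight fun x => ⟨fun h => h.2, fun h => ⟨trivial, h⟩⟩)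
  rw [hFc, htop] at h1
  have hFd : Nat.card F ∣ 3 ^ 4 := by
    rw [show (3 : ℕ) ^ 4 = Nat.card W by rw [hcard]; norm_num]
    exact AddSubgroup.card_addSubgroup_dvd_card F
  obtain ⟨i, hi, hFi⟩ := (Nat.dvd_prime_pow (by norm_num : Nat.Prime 3)).mp hFd
  have hne : t ≠ 1 := fun h => by rw [h, orderOf_one] at ht; norm_num at ht
  have hF3 : Nat.card F = 3 := by
    rw [hFi] at h1 ⊢
    interval_cases i <;> simp_all [Nat.ModEq]
    have hall : F = ⊤ := AddSubgroup.eq_top_of_card_eq F (by rw [hFi, hcard])
    exact hne (FaithfulSMul.eq_of_smul_eq_smul fun w : W =>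
      (show w ∈ F by rw [hall]; trivial).trans (one_smul G w).symm)
  obtain ⟨f, hf⟩ : ∃ f : F, f ≠ 0 := by
    have : Nontrivial F := Finite.one_lt_card_iff_nontrivial.mp (by omega)
    exact exists_ne 0
  obtain ⟨U, hU, hfU, hUinv⟩ := hperp (f : W) (fun h => hf (Subtype.ext h))
  have h2 := card_fixed_modEq (W := W) t ht U (hUinv t f.2)
  rw [hU] at h2
  have hle : Nat.card {x : W // x ∈ U ∧ t • x = x} = 3 := by
    refine le_antisymm (hF3 ▸ Nat.card_le_card_of_injective (fun x => (⟨x.1, x.2.2⟩ : F))
      fun a b h => Subtype.ext (congrArg (fun y : F => (y : W)) h)) ?_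
    have hpow : ∀ n : ℕ, n • (f : W) ∈ U ∧ t • (n • (f : W)) = n • (f : W) := fun n =>
      ⟨U.nsmul_mem hfU n, (F.nsmul_mem f.2 n : n • (f : W) ∈ F)⟩
    have hof : addOrderOf (f : W) = 3 :=
      addOrderOf_eq_prime (hWp f) fun h => hf (Subtype.ext h)
    rw [show (3 : ℕ) = Nat.card (Fin (addOrderOf (f : W))) by rw [Nat.card_fin, hof]]
    refine Nat.card_le_card_of_injective
      (fun n => (⟨(n : ℕ) • (f : W), hpow n⟩ : {x : W // x ∈ U ∧ t • x = x})) fun a b h => ?_
    exact Fin.ext (nsmul_injOn_Iio_addOrderOf a.2 b.2 (congrArg Subtype.val h))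
  rw [hle] at h2
  simp [Nat.ModEq] at h2

theorem card_le_of_eightyone (hodd : Odd (Nat.card G)) (hW : IsCR G W) (hWp : ∀ w : W, 3 • w = 0)
    (hcard : Nat.card W = 81) (h13 : ¬ 13 ∣ Nat.card G) : Nat.card G ≤ 5 := by
  have : Fact (Nat.Prime 3) := ⟨by norm_num⟩
  have h := card_dvd_GL (G := G) (p := 3) (k := 4) hWp hcard
  have h2 : Nat.card G ∣ 47385 := (Nat.Coprime.dvd_mul_left (show Nat.Coprime (Nat.card G) 512 from
    (Nat.coprime_two_right.mpr hodd).pow_right 9)).mp (by simpa [Fin.prod_univ_four] using h)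
  have h3 : Nat.card G ∣ 3645 := (Nat.Coprime.dvd_mul_left
    ((Nat.Prime.coprime_iff_not_dvd (by norm_num)).mpr h13).symm).mp (h2 : Nat.card G ∣ 13 * 3645)
  have hnd := not_dvd_card_of_isCR (G := G) hW hWp (fun d hd hd1 => by
    have h5 : d ∣ 5 := by
      refine (Nat.Coprime.dvd_mul_left (show Nat.Coprime d 729 from ?_)).mp (hd.trans h3)
      have : Nat.Coprime d 3 := ((Nat.Prime.coprime_iff_not_dvd (by norm_num)).mpr
        (by omega)).symm
      exact this.pow_right 6
    rcases (Nat.dvd_prime (by norm_num)).mp h5 with rfl | rfl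
    · rfl
    · norm_num at hd1)
  exact Nat.le_of_dvd (by norm_num) ((Nat.Coprime.dvd_mul_left
    (((Nat.Prime.coprime_iff_not_dvd (by norm_num)).mpr hnd).symm.pow_right 6)).mp
      (h3 : Nat.card G ∣ 3 ^ 6 * 5))

theorem card_le_of_twentyseven (hodd : Odd (Nat.card G)) (hW : IsIrr G W) (hWp : ∀ w : W, 3 • w = 0)
    (hcard : Nat.card W = 27) : Nat.card G ≤ 117 := by
  classical
  have : Fact (Nat.Prime 3) := ⟨by norm_num⟩
  have : Fact (Nat.Prime 13) := ⟨by norm_num⟩
  have h := card_dvd_GL (G := G) (p := 3) (k := 3) hWp hcard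
  have h2 : Nat.card G ∣ 351 := (Nat.Coprime.dvd_mul_left (show Nat.Coprime (Nat.card G) 32 from
    (Nat.coprime_two_right.mpr hodd).pow_right 5)).mp (by simpa [Fin.prod_univ_three] using h)
  by_contra hlt
  have hc : Nat.card G = 351 := by
    obtain ⟨e, he⟩ := h2
    rcases Nat.lt_or_ge e 3 with he' | he'
    · interval_cases e <;> simp_all
      exact absurd hodd (by rw [Nat.odd_iff]; omega)
    · nlinarith
  obtain ⟨P⟩ := (inferInstance : Nonempty (Sylow 13 G))
  have hPc : Nat.card (P : Subgroup G) = 13 := by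
    rw [P.card_eq_multiplicity, hc]
    have : (351 : ℕ).factorization 13 = 1 := by
      rw [show (351 : ℕ) = 13 * 27 by norm_num, Nat.factorization_mul (by norm_num) (by norm_num),
        Finsupp.add_apply, Nat.Prime.factorization_self (by norm_num),
        Nat.factorization_eq_zero_of_not_dvd (by norm_num : ¬ 13 ∣ 27)]
    rw [this, pow_one]
  obtain ⟨t, ht⟩ := exists_prime_orderOf_dvd_card' 13 (show 13 ∣ Nat.card (P : Subgroup G) by rw [hPc])
  have htP : orderOf (t : G) = 13 := by rwa [Subgroup.orderOf_coe]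
  let F : AddSubgroup W :=
    { carrier := {w | (t : G) • w = w}
      zero_mem' := smul_zero (t : G)
      add_mem' := fun {a b} (ha : (t : G) • a = a) (hb : (t : G) • b = b) => by
        show (t : G) • (a + b) = a + b
        rw [smul_add, ha, hb]
      neg_mem' := fun {a} (ha : (t : G) • a = a) => by show (t : G) • -a = -a; rw [smul_neg, ha] }
  have hfree : ∀ w : W, (t : G) • w = w → w = 0 := by
    have h1 := card_fixed_modEq (W := W) (t : G) htP ⊤ (fun _ _ => trivial)
    have hFc : Nat.card {x : W // x ∈ (⊤ : AddSubgroup W) ∧ (t : G) • x = x} = Nat.card F :=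
      Nat.card_congr (Equiv.subtypeEquivRight fun x => ⟨fun h => h.2, fun h => ⟨trivial, h⟩⟩)
    rw [hFc, Nat.card_congr AddSubgroup.topEquiv.toEquiv, hcard] at h1
    obtain ⟨i, hi, hFi⟩ := (Nat.dvd_prime_pow (by norm_num : Nat.Prime 3)).mp
      (show Nat.card F ∣ 3 ^ 3 by
        rw [show (3 : ℕ) ^ 3 = Nat.card W by rw [hcard]; norm_num]
        exact AddSubgroup.card_addSubgroup_dvd_card F)
    rw [hFi] at h1
    interval_cases i <;> simp_all [Nat.ModEq]
    · intro w hw
      have : Subsingleton F := (Nat.card_eq_one_iff_unique.mp (by simpa using hFi)).1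
      exact congrArg Subtype.val (Subsingleton.elim (⟨w, hw⟩ : F) 0)
    · have hall : F = ⊤ := AddSubgroup.eq_top_of_card_eq F (by rw [hFi, hcard])
      have h1' : (t : G) = 1 := FaithfulSMul.eq_of_smul_eq_smul fun w : W =>
        (show w ∈ F by rw [hall]; trivial).trans (one_smul G w).symm
      have h2' : t = 1 := Subtype.ext h1'
      rw [h2', orderOf_one] at ht
      norm_num at ht
  have hbad : ∀ x ∈ Subgroup.centralizer ((P : Subgroup G) : Set G), orderOf x = 3 → False := by
    intro x hx hx3
    have hcomm : (t : G) * x = x * (t : G) := Subgroup.mem_centralizer_iff.mp hx t t.2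
    let X : AddSubgroup W :=
      { carrier := {w | x • w = w}
        zero_mem' := smul_zero x
        add_mem' := fun {a b} (ha : x • a = a) (hb : x • b = b) => by
          show x • (a + b) = a + b
          rw [smul_add, ha, hb]
        neg_mem' := fun {a} (ha : x • a = a) => by show x • -a = -a; rw [smul_neg, ha] }
    have htX : ∀ w ∈ X, (t : G) • w ∈ X := fun w (hw : x • w = w) => by
      show x • (t : G) • w = (t : G) • w
      rw [← mul_smul, ← hcomm, mul_smul, hw]
    have h1 := card_fixed_modEq (W := W) x hx3 ⊤ (fun _ _ => trivial)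
    have hXc : Nat.card {w : W // w ∈ (⊤ : AddSubgroup W) ∧ x • w = w} = Nat.card X :=
      Nat.card_congr (Equiv.subtypeEquivRight fun x => ⟨fun h => h.2, fun h => ⟨trivial, h⟩⟩)
    rw [hXc, Nat.card_congr AddSubgroup.topEquiv.toEquiv, hcard] at h1
    have h2 := card_fixed_modEq (t : G) htP X htX
    have hone : Nat.card {w : W // w ∈ X ∧ (t : G) • w = w} = 1 := by
      have : Subsingleton {w : W // w ∈ X ∧ (t : G) • w = w} :=
        ⟨fun a b => Subtype.ext ((hfree _ a.2.2).trans (hfree _ b.2.2).symm)⟩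
      have : Nonempty {w : W // w ∈ X ∧ (t : G) • w = w} := ⟨⟨0, zero_mem _, smul_zero _⟩⟩
      exact Nat.card_eq_one_iff_unique.mpr ⟨inferInstance, inferInstance⟩
    rw [hone] at h2
    obtain ⟨i, hi, hXi⟩ := (Nat.dvd_prime_pow (by norm_num : Nat.Prime 3)).mp
      (show Nat.card X ∣ 3 ^ 3 by
        rw [show (3 : ℕ) ^ 3 = Nat.card W by rw [hcard]; norm_num]
        exact AddSubgroup.card_addSubgroup_dvd_card X)
    rw [hXi] at h1 h2
    interval_cases i <;> simp_all [Nat.ModEq]
    have hall : X = ⊤ := AddSubgroup.eq_top_of_card_eq X (by rw [hXi, hcard])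
    have : x = 1 := FaithfulSMul.eq_of_smul_eq_smul fun w : W =>
      (show w ∈ X by rw [hall]; trivial).trans (one_smul G w).symm
    rw [this, orderOf_one] at hx3
    norm_num at hx3
  have hCdvd : Nat.card (Subgroup.centralizer ((P : Subgroup G) : Set G)) ∣ 13 := by
    have h3 : ¬ 3 ∣ Nat.card (Subgroup.centralizer ((P : Subgroup G) : Set G)) := fun h => by
      obtain ⟨x, hx⟩ := exists_prime_orderOf_dvd_card' 3 h
      exact hbad x x.2 (by rwa [Subgroup.orderOf_coe])
    exact (Nat.Coprime.dvd_mul_left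
      (((Nat.Prime.coprime_iff_not_dvd (by norm_num)).mpr h3).symm.pow_right 3)).mp
        (show Nat.card (Subgroup.centralizer ((P : Subgroup G) : Set G)) ∣ 3 ^ 3 * 13 by
          rw [show (3 : ℕ) ^ 3 * 13 = Nat.card G by rw [hc]; norm_num]
          exact Subgroup.card_subgroup_dvd_card _)
  -- the Sylow subgroup is normal, and its automorphism group is too small
  have hn : Nat.card (Sylow 13 G) = 1 ∨ Nat.card (Sylow 13 G) = 27 := by
    have hd : Nat.card (Sylow 13 G) ∣ 27 := by
      have := P.card_dvd_index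
      have hi := Subgroup.card_mul_index (P : Subgroup G)
      rw [hPc, hc] at hi
      rwa [show (P : Subgroup G).index = 27 by omega] at this
    have hm := card_sylow_modEq_one 13 G
    obtain ⟨i, hi, he⟩ := (Nat.dvd_prime_pow (by norm_num : Nat.Prime 3)).mp (show Nat.card (Sylow 13 G) ∣ 3 ^ 3 from hd)
    rw [he, Nat.ModEq] at hm
    rw [he]
    interval_cases i <;> simp_all
  let φ := Subgroup.normalizerMonoidHom (P : Subgroup G)
  have hker : ∀ g, g ∈ φ.ker → (g : G) ∈ Subgroup.centralizer ((P : Subgroup G) : Set G) := by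
    intro g hg
    rw [Subgroup.normalizerMonoidHom_ker, Subgroup.mem_subgroupOf] at hg
    exact hg
  rcases hn with hn | hn
  · have : Subsingleton (Sylow 13 G) := (Nat.card_eq_one_iff_unique.mp hn).1
    have hnorm : (P : Subgroup G).Normal := Sylow.normal_of_subsingleton P
    have htop : Subgroup.normalizer ((P : Subgroup G) : Set G) = ⊤ :=
      Subgroup.normalizer_eq_top_iff.mpr hnorm
    have h1 : Nat.card φ.range ∣ 12 := by
      have : IsCyclic (P : Subgroup G) := isCyclic_of_prime_card hPc
      have := Subgroup.card_subgroup_dvd_card φ.range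
      rwa [IsCyclic.card_mulAut, hPc, Nat.totient_prime (by norm_num)] at this
    have h2 : Nat.card φ.ker ≤ 13 :=
      (Nat.card_le_card_of_injective (fun g : φ.ker =>
          (⟨(g.1 : G), hker _ g.2⟩ : Subgroup.centralizer ((P : Subgroup G) : Set G)))
        fun a b h => Subtype.ext (Subtype.ext
          (congrArg (fun y : Subgroup.centralizer ((P : Subgroup G) : Set G) => (y : G)) h))).trans
        (Nat.le_of_dvd (by norm_num) hCdvd)
    have h3 : Nat.card φ.ker * φ.ker.index = 351 := by
      rw [Subgroup.card_mul_index, htop, Subgroup.card_top, hc]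
    rw [Subgroup.index_ker] at h3
    have := Nat.le_of_dvd (by norm_num) h1
    nlinarith
  · -- a normal minimal subgroup would be a 3-group
    have hidx := Sylow.card_eq_index_normalizer P
    rw [hn] at hidx
    have hN : Subgroup.normalizer ((P : Subgroup G) : Set G) = (P : Subgroup G) := by
      refine (Subgroup.eq_of_le_of_card_ge Subgroup.le_normalizer ?_).symm
      have := Subgroup.card_mul_index (Subgroup.normalizer ((P : Subgroup G) : Set G))
      rw [hc, show (Subgroup.normalizer ((P : Subgroup G) : Set G)).index = 27 from hidx.symm] at this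
      omega
    have : IsMulCommutative (P : Subgroup G) :=
      have : IsCyclic (P : Subgroup G) := isCyclic_of_prime_card hPc
      inferInstance
    have hle : Subgroup.normalizer ((P : Subgroup G) : Set G) ≤
        Subgroup.centralizer ((P : Subgroup G) : Set G) := by
      rw [hN]; exact Subgroup.le_centralizer _
    let τ := MonoidHom.transferSylow P hle
    have hK := MonoidHom.ker_transferSylow_isComplement' P hle
    have hKc : Nat.card τ.ker = 3 ^ 3 := by
      have := hK.card_mul_card
      rw [hPc, hc] at this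
      show Nat.card (MonoidHom.transferSylow P hle).ker = _
      omega
    have hfix := fixes_of_normal_pGroup hW.isCR hWp τ.ker (IsPGroup.of_card hKc)
    have : τ.ker = ⊥ := (Subgroup.eq_bot_iff_forall _).mpr fun g hg =>
      FaithfulSMul.eq_of_smul_eq_smul fun w : W => (hfix g hg w).trans (one_smul G w).symm
    rw [this, Subgroup.card_bot] at hKc
    norm_num at hKc

end CfsgLib.BaseTwo
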