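import Cfsg.Agent.Lib.BaseTwo.Imprimitive
import Cfsg.Agent.Lib.BaseTwo.Small
/-
Gluck's theorem for groups of odd order: some subset of the points has trivial stabiliser.
The primitive case uses the two-point base on the regular normal subgroup.
-/
set_option autoImplicit false

universe u

open scoped commutatorElement

namespace CfsgLib.BaseTwo

theorem card_set_eq (Ω : Type*) [Finite Ω] : Nat.card (Set Ω) = 2 ^ Nat.card Ω := by
  rw [show Set Ω = (Ω → Prop) from rfl, Nat.card_fun, Nat.card_eq_fintype_card (α := Prop), Fintype.card_prop]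

/-- the prime exponent of an irreducible module -/
theorem exists_prime_exponent {A V : Type*} [Group A] [AddCommGroup V] [Finite V] [Nontrivial V]
    [DistribMulAction A V] (hirr : IsIrr A V) :
    ∃ p k : ℕ, p.Prime ∧ (∀ v : V, p • v = 0) ∧ Nat.card V = p ^ k ∧ 0 < k := by
  have hcard : 1 < Nat.card V := Finite.one_lt_card
  obtain ⟨p, hp, hpd⟩ := Nat.exists_prime_and_dvd hcard.ne'
  have : Fact p.Prime := ⟨hp⟩
  obtain ⟨v, hv⟩ := exists_prime_addOrderOf_dvd_card' p hpd
  let U : AddSubgroup V :=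
    { carrier := {x | p • x = 0}
      zero_mem' := smul_zero p
      add_mem' := fun {a b} (ha : p • a = 0) (hb : p • b = 0) => by
        show p • (a + b) = 0
        rw [smul_add, ha, hb, add_zero]
      neg_mem' := fun {a} (ha : p • a = 0) => by show p • -a = 0; rw [smul_neg, ha, neg_zero] }
  have hU : ∀ a : A, ∀ x ∈ U, a • x ∈ U := fun a x (hx : p • x = 0) => by
    show p • a • x = 0
    rw [smul_comm, hx, smul_zero]
  have hvU : v ∈ U := show p • v = 0 from hv ▸ addOrderOf_nsmul_eq_zero v
  rcases hirr U hU with h | h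
  · rw [h, AddSubgroup.mem_bot] at hvU
    rw [hvU, addOrderOf_zero] at hv
    exact absurd hv hp.ne_one.symm
  · have hexp : ∀ v : V, p • v = 0 := fun v => show v ∈ U by rw [h]; trivial
    have hP : IsPGroup p (Multiplicative V) := fun x => ⟨1, by
      rw [pow_one]
      exact Multiplicative.ext (by simpa [toAdd_pow] using hexp (Multiplicative.toAdd x))⟩
    obtain ⟨k, hk⟩ := hP.exists_card_eq
    rw [Nat.card_congr Multiplicative.toAdd] at hk
    refine ⟨p, k, hp, hexp, hk, Nat.pos_of_ne_zero fun hk0 => ?_⟩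
    rw [hk0, pow_zero] at hk
    omega

theorem exists_abelian_normal (G : Type u) [Group G] [Nontrivial G] (hs : Group.IsSolvable G) :
    ∃ A : Subgroup G, A.Normal ∧ A ≠ ⊥ ∧ ∀ x ∈ A, ∀ y ∈ A, x * y = y * x := by
  classical
  have hex : ∃ n, derivedSeries G n = ⊥ := hs.solvable
  have hk0 : Nat.find hex ≠ 0 := fun h => by
    have h' := Nat.find_spec hex
    rw [h, derivedSeries_zero] at h'
    exact top_ne_bot h'
  obtain ⟨j, hj⟩ := Nat.exists_eq_succ_of_ne_zero hk0
  refine ⟨derivedSeries G j, inferInstance, Nat.find_min hex (by omega), fun x hx y hy => ?_⟩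
  have h : ⁅x, y⁆ ∈ derivedSeries G (j + 1) := by
    rw [derivedSeries_succ]; exact Subgroup.commutator_mem_commutator hx hy
  rw [← Nat.succ_eq_add_one, ← hj, Nat.find_spec hex, Subgroup.mem_bot] at h
  exact commutatorElement_eq_one_iff_mul_comm.mp h

/-- subsets fixed by an element of odd order -/
theorem card_fixed_sets {G Ω : Type*} [Group G] [Finite G] [MulAction G Ω] [Finite Ω]
    (hG : Odd (Nat.card G)) (g : G) :
    ∃ k, 3 * k ≤ Nat.card Ω + 2 * Nat.card {x : Ω // g • x = x} ∧
      Nat.card {T : Set Ω // ∀ x, g • x ∈ T ↔ x ∈ T} ≤ 2 ^ k := by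
  classical
  let Z := Subgroup.zpowers g
  let Q := MulAction.orbitRel.Quotient Z Ω
  have : Fintype Q := Fintype.ofFinite Q
  refine ⟨Nat.card Q, ?_, ?_⟩
  · have hodd : ∀ ω : Q, Odd (Nat.card (MulAction.orbit Z (Quotient.out ω))) := fun ω => by
      rw [Nat.card_coe_set_eq, ← MulAction.index_stabilizer]
      exact (hG.of_dvd_nat (Subgroup.card_subgroup_dvd_card Z)).of_dvd_nat (Subgroup.index_dvd_card _)
    let one : Finset Q := Finset.univ.filter
      fun ω => Nat.card (MulAction.orbit Z (Quotient.out ω)) = 1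
    have hone : one.card ≤ Nat.card {x : Ω // g • x = x} := by
      rw [← Nat.card_eq_finsetCard]
      refine Nat.card_le_card_of_injective (fun ω => ⟨Quotient.out ω.1, ?_⟩) ?_
      · have hω := (Finset.mem_filter.mp ω.2).2
        have : Subsingleton (MulAction.orbit Z (Quotient.out ω.1)) :=
          (Nat.card_eq_one_iff_unique.mp hω).1
        exact congrArg Subtype.val (Subsingleton.elim
          (⟨g • Quotient.out ω.1, ⟨⟨g, Subgroup.mem_zpowers g⟩, rfl⟩⟩ :
            MulAction.orbit Z (Quotient.out ω.1))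
          ⟨Quotient.out ω.1, MulAction.mem_orbit_self _⟩)
      · intro a b h
        have h' : Quotient.out a.1 = Quotient.out b.1 := congrArg Subtype.val h
        exact Subtype.ext (by rw [← Quotient.out_eq a.1, h', Quotient.out_eq])
    have hm : Nat.card Ω = ∑ ω : Q, Nat.card (MulAction.orbit Z (Quotient.out ω)) := by
      rw [Nat.card_congr (MulAction.selfEquivSigmaOrbits Z Ω), Nat.card_sigma]
    have hle : ∀ ω : Q, 3 ≤ Nat.card (MulAction.orbit Z (Quotient.out ω)) +
        (if ω ∈ one then 2 else 0) := by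
      intro ω
      by_cases h : ω ∈ one
      · rw [if_pos h, (Finset.mem_filter.mp h).2]
      · rw [if_neg h, add_zero]
        obtain ⟨j, hj⟩ := hodd ω
        have : Nat.card (MulAction.orbit Z (Quotient.out ω)) ≠ 1 := fun h1 =>
          h (Finset.mem_filter.mpr ⟨Finset.mem_univ _, h1⟩)
        omega
    calc 3 * Nat.card Q = ∑ _ω : Q, 3 := by simp [Nat.card_eq_fintype_card, mul_comm]
      _ ≤ ∑ ω : Q, (Nat.card (MulAction.orbit Z (Quotient.out ω)) + if ω ∈ one then 2 else 0) :=
          Finset.sum_le_sum fun ω _ => hle ω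
      _ = Nat.card Ω + 2 * one.card := by
          rw [Finset.sum_add_distrib, ← hm, Finset.sum_ite_mem, Finset.univ_inter,
            Finset.sum_const, smul_eq_mul, mul_comm]
      _ ≤ _ := by omega
  · rw [show 2 ^ Nat.card Q = Nat.card (Set Q) by simp [Nat.card_eq_fintype_card]]
    refine Nat.card_le_card_of_injective
      (fun T => (fun x : Ω => (Quotient.mk'' x : Q)) '' T.1) fun T1 T2 h => Subtype.ext ?_
    have key : ∀ T : {T : Set Ω // ∀ x, g • x ∈ T ↔ x ∈ T},
        T.1 = (fun x : Ω => (Quotient.mk'' x : Q)) ⁻¹' ((fun x : Ω => (Quotient.mk'' x : Q)) '' T.1) := by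
      intro T
      refine Set.Subset.antisymm (Set.subset_preimage_image _ _) fun x hx => ?_
      obtain ⟨y, hy, hxy⟩ := hx
      obtain ⟨⟨h, hh⟩, rfl⟩ := Quotient.exact' hxy
      obtain ⟨n, rfl⟩ := (isOfFinOrder_of_finite g).mem_powers_iff_mem_zpowers.mpr hh
      have hy' : g ^ n • x ∈ T.1 := hy
      clear hy hxy hh
      induction n with
      | zero => simpa using hy'
      | succ n ih => exact ih ((T.2 _).mp (by rwa [pow_succ', mul_smul] at hy'))
    rw [key T1, key T2]; exact congrArg _ h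

/-- if all subsets have nontrivial stabiliser the group is large -/
theorem exists_set_of_count {G Ω : Type*} [Group G] [Finite G] [MulAction G Ω] [Finite Ω]
    (hG : Odd (Nat.card G)) (F : ℕ) (hF : ∀ g : G, g ≠ 1 → Nat.card {x : Ω // g • x = x} ≤ F)
    (hc : Nat.card G * 2 ^ ((Nat.card Ω + 2 * F) / 3) < 2 * 2 ^ Nat.card Ω) :
    ∃ T : Set Ω, ∀ g : G, (∀ x, g • x ∈ T ↔ x ∈ T) → g = 1 := by
  classical
  by_contra hbad
  simp only [not_exists, not_forall] at hbad
  have : Fintype G := Fintype.ofFinite G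
  have : Fintype (Set Ω) := Fintype.ofFinite _
  let P : G → Set Ω → Prop := fun g T => ∀ x, g • x ∈ T ↔ x ∈ T
  have hlow : ∀ T : Set Ω, 3 ≤ (Finset.univ.filter fun g => P g T).card := by
    intro T
    let S : Subgroup G :=
      { carrier := {g | P g T}
        one_mem' := fun x => by rw [one_smul]
        mul_mem' := fun {a b} ha hb x => by rw [mul_smul, ha, hb]
        inv_mem' := fun {a} ha x => by simpa using (ha (a⁻¹ • x)).symm }
    have hS : Nat.card S = (Finset.univ.filter fun g => P g T).card := by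
      rw [Nat.card_eq_fintype_card]; exact Fintype.card_subtype _
    obtain ⟨g, hg, hg1⟩ := hbad T
    have h1 : Nat.card S ≠ 1 := fun h =>
      hg1 (congrArg Subtype.val ((Nat.card_eq_one_iff_unique.mp h).1.elim (⟨g, hg⟩ : S) 1))
    obtain ⟨j, hj⟩ := hG.of_dvd_nat (Subgroup.card_subgroup_dvd_card S)
    omega
  have h1 : 3 * 2 ^ Nat.card Ω ≤ ∑ T : Set Ω, (Finset.univ.filter fun g => P g T).card := by
    refine le_trans (le_of_eq ?_) (Finset.sum_le_sum fun T _ => hlow T)
    have hcs : Fintype.card (Set Ω) = 2 ^ Nat.card Ω := by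
      rw [← Nat.card_eq_fintype_card, card_set_eq]
    rw [Finset.sum_const, Finset.card_univ, hcs, smul_eq_mul, mul_comm]
  have h2 : ∑ T : Set Ω, (Finset.univ.filter fun g => P g T).card =
      ∑ g : G, (Finset.univ.filter fun T => P g T).card := by
    simp only [Finset.card_filter]; exact Finset.sum_comm
  have h3 : ∑ g : G, (Finset.univ.filter fun T => P g T).card ≤
      2 ^ Nat.card Ω + Nat.card G * 2 ^ ((Nat.card Ω + 2 * F) / 3) := by
    rw [← Finset.add_sum_erase _ _ (Finset.mem_univ (1 : G))]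
    refine add_le_add ?_ ?_
    · refine le_trans (Finset.card_le_univ _) (le_of_eq ?_)
      rw [← Nat.card_eq_fintype_card, card_set_eq]
    · refine le_trans (Finset.sum_le_card_nsmul _ _ (2 ^ ((Nat.card Ω + 2 * F) / 3)) fun g hg => ?_) ?_
      · obtain ⟨k, hk, hk'⟩ := card_fixed_sets (Ω := Ω) hG g
        have hf := hF g (Finset.ne_of_mem_erase hg)
        rw [Nat.card_eq_fintype_card, Fintype.card_subtype] at hk'
        exact hk'.trans (Nat.pow_le_pow_right (by norm_num) (by omega))
      · rw [smul_eq_mul]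
        refine Nat.mul_le_mul_right _ ?_
        rw [Nat.card_eq_fintype_card]
        exact Finset.card_le_univ _
  omega

theorem arith_large : ∀ m : ℕ, 32 ≤ m → m ^ 27 < 2 ^ (4 * m + 9) := by
  intro m hm
  induction m, hm using Nat.le_induction with
  | base => norm_num
  | succ m hm ih =>
    have h1 : 32 ^ 27 * (m + 1) ^ 27 ≤ 33 ^ 27 * m ^ 27 := by
      rw [← mul_pow, ← mul_pow]; exact Nat.pow_le_pow_left (by omega) 27
    have h2 : (33 : ℕ) ^ 27 ≤ 32 ^ 27 * 16 := by norm_num
    have h3 : (m + 1) ^ 27 ≤ 16 * m ^ 27 := by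
      refine Nat.le_of_mul_le_mul_left (h1.trans ?_) (by positivity : 0 < 32 ^ 27)
      calc 33 ^ 27 * m ^ 27 ≤ 32 ^ 27 * 16 * m ^ 27 := Nat.mul_le_mul_right _ h2
        _ = _ := by ring
    rw [show 4 * (m + 1) + 9 = 4 * m + 9 + 4 by ring, pow_add]
    calc (m + 1) ^ 27 ≤ 16 * m ^ 27 := h3
      _ < 16 * 2 ^ (4 * m + 9) := Nat.mul_lt_mul_of_pos_left ih (by norm_num)
      _ = _ := by ring

theorem primitive_case {G Ω : Type u} [Group G] [Finite G] [Finite Ω] [MulAction G Ω]
    [FaithfulSMul G Ω] [MulAction.IsPretransitive G Ω] [Nontrivial Ω]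
    (hG : Odd (Nat.card G)) (hs : Group.IsSolvable G) (hb : Below.{u} (Nat.card Ω + 1))
    (a : Ω) (hmax : ∀ K : Subgroup G, MulAction.stabilizer G a < K → K = ⊤) :
    ∃ T : Set Ω, ∀ g : G, (∀ x, g • x ∈ T ↔ x ∈ T) → g = 1 := by
  classical
  let H := MulAction.stabilizer G a
  have : Nontrivial G := by
    obtain ⟨x, y, hxy⟩ := exists_pair_ne Ω
    obtain ⟨g, rfl⟩ := MulAction.exists_smul_eq G x y
    exact ⟨⟨g, 1, fun h => hxy (by rw [h, one_smul])⟩⟩
  obtain ⟨N, hN, hNne, hcomm⟩ := exists_abelian_normal G hs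
  have hcore : ∀ K : Subgroup G, K ≤ H → K.Normal → K = ⊥ := fun K hK hKn =>
    (Subgroup.eq_bot_iff_forall _).mpr fun k hk => FaithfulSMul.eq_of_smul_eq_smul fun x : Ω => by
      obtain ⟨g, rfl⟩ := MulAction.exists_smul_eq G a x
      have h1 : g⁻¹ * k * g ∈ H := hK (by simpa using hKn.conj_mem k hk g⁻¹)
      rw [MulAction.mem_stabilizer_iff, mul_smul, mul_smul, inv_smul_eq_iff] at h1
      rw [h1, one_smul]
  -- nontrivial subgroups of N invariant under H are normal and transitive
  have hnormal : ∀ U : Subgroup G, U ≤ N → (∀ h ∈ H, ∀ x ∈ U, h * x * h⁻¹ ∈ U) → U.Normal := by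
    intro U hU hUH
    have hle : H ⊔ N ≤ Subgroup.normalizer (U : Set G) := by
      refine sup_le (fun h hh => Subgroup.mem_normalizer_iff.mpr fun x => ⟨hUH h hh x, fun hx => ?_⟩)
        fun n hn => Subgroup.mem_normalizer_iff.mpr fun x => ⟨fun hx => ?_, fun hx => ?_⟩
      · have := hUH h⁻¹ (inv_mem hh) _ hx
        simpa [mul_assoc] using this
      · rwa [hcomm n hn x (hU hx), mul_inv_cancel_right]
      · have hxN : x ∈ N := by
          have := hN.conj_mem _ (hU hx) n⁻¹
          simpa [mul_assoc] using this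
        rwa [hcomm n hn x hxN, mul_inv_cancel_right] at hx
    have htop : H ⊔ N = ⊤ := hmax _ (lt_of_le_of_ne le_sup_left fun h =>
      hNne (hcore N (le_sup_right.trans h.ge) hN))
    rw [htop, top_le_iff] at hle
    exact Subgroup.normalizer_eq_top_iff.mp hle
  have hgen : ∀ U : Subgroup G, U.Normal → U ≠ ⊥ → ∀ x : Ω, ∃ u ∈ U, u • a = x := by
    intro U hUn hUne x
    have htop : H ⊔ U = ⊤ := hmax _ (lt_of_le_of_ne le_sup_left fun h =>
      hUne (hcore U (le_sup_right.trans h.ge) hUn))
    obtain ⟨g, rfl⟩ := MulAction.exists_smul_eq G a x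
    obtain ⟨u, hu, h, hh, rfl⟩ := Subgroup.mem_sup_of_normal_left.mp
      (show g ∈ U ⊔ H by rw [sup_comm, htop]; trivial)
    exact ⟨u, hu, by rw [mul_smul, show h • a = a from hh]⟩
  have hreg : N ⊓ H = ⊥ := by
    refine hcore _ inf_le_right (hnormal _ inf_le_left fun h hh x hx => ⟨hN.conj_mem x hx.1 h, ?_⟩)
    exact H.mul_mem (H.mul_mem hh hx.2) (H.inv_mem hh)
  have hinj : ∀ x ∈ N, ∀ y ∈ N, x • a = y • a → x = y := fun x hx y hy h => by
    have : y⁻¹ * x ∈ N ⊓ H := ⟨N.mul_mem (N.inv_mem hy) hx, by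
      show (y⁻¹ * x) • a = a
      rw [mul_smul, h, inv_smul_smul]⟩
    rw [hreg, Subgroup.mem_bot] at this
    exact (inv_mul_eq_one.mp this).symm
  let e : N ≃ Ω := Equiv.ofBijective (fun x => (x : G) • a)
    ⟨fun x y h => Subtype.ext (hinj x x.2 y y.2 h), fun x => by
      obtain ⟨u, hu, h⟩ := hgen N hN hNne x; exact ⟨⟨u, hu⟩, h⟩⟩
  -- N as a module for H
  let : IsMulCommutative N := ⟨⟨fun x y => Subtype.ext (hcomm x x.2 y y.2)⟩⟩
  let : CommGroup N := { (inferInstance : Group N) with mul_comm := fun x y => Subtype.ext (hcomm x x.2 y y.2) }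
  let : DistribMulAction H (Additive N) :=
    { smul := fun h x => Additive.ofMul ⟨h.1 * (Additive.toMul x : N) * h.1⁻¹, hN.conj_mem _ (Additive.toMul x).2 h.1⟩
      one_smul := fun x => Additive.toMul.injective (Subtype.ext (by
        show (1 : G) * _ * (1 : G)⁻¹ = _
        simp))
      mul_smul := fun g h x => Additive.toMul.injective (Subtype.ext (by
        show (g.1 * h.1) * _ * (g.1 * h.1)⁻¹ = g.1 * (h.1 * _ * h.1⁻¹) * g.1⁻¹
        group))
      smul_zero := fun g => Additive.toMul.injective (Subtype.ext (by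
        show g.1 * 1 * g.1⁻¹ = 1
        simp))
      smul_add := fun g x y => Additive.toMul.injective (Subtype.ext (by
        show g.1 * ((Additive.toMul x : N).1 * (Additive.toMul y : N).1) * g.1⁻¹ =
          (g.1 * (Additive.toMul x : N).1 * g.1⁻¹) * (g.1 * (Additive.toMul y : N).1 * g.1⁻¹)
        group)) }
  have hequiv : ∀ (h : H) (x : Additive N), e (Additive.toMul (h • x)) = h.1 • e (Additive.toMul x) := by
    intro h x
    simp only [e]
    show (h.1 * (Additive.toMul x : N).1 * h.1⁻¹) • a = h.1 • (Additive.toMul x : N).1 • a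
    rw [mul_smul, mul_smul]
    congr 2
    exact inv_smul_eq_iff.mpr h.2.symm
  have : FaithfulSMul H (Additive N) := ⟨fun {g h} hgh => Subtype.ext
    (FaithfulSMul.eq_of_smul_eq_smul fun x : Ω => by
      obtain ⟨y, rfl⟩ := e.surjective x
      show g.1 • e (Additive.toMul (Additive.ofMul y)) = _
      rw [← hequiv g (Additive.ofMul y), hgh, hequiv]; rfl)⟩
  have hirr : IsIrr H (Additive N) := by
    intro U hU
    by_cases hU1 : U = ⊥
    · exact Or.inl hU1
    right
    let U' : Subgroup G :=
      { carrier := {g | ∃ hg : g ∈ N, Additive.ofMul (⟨g, hg⟩ : N) ∈ U}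
        one_mem' := ⟨one_mem _, U.zero_mem⟩
        mul_mem' := fun {x y} ⟨hx, hx'⟩ ⟨hy, hy'⟩ => ⟨mul_mem hx hy, U.add_mem hx' hy'⟩
        inv_mem' := fun {x} ⟨hx, hx'⟩ => ⟨inv_mem hx, U.neg_mem hx'⟩ }
    have hU'n : U'.Normal := hnormal U' (fun g hg => hg.1) fun h hh x hx =>
      ⟨hN.conj_mem x hx.1 h, hU ⟨h, hh⟩ _ hx.2⟩
    have hU'ne : U' ≠ ⊥ := by
      obtain ⟨u, hu⟩ := AddSubgroup.ne_bot_iff_exists_ne_zero.mp hU1
      intro h
      have hmem : (Additive.toMul u.1 : N).1 ∈ U' := ⟨(Additive.toMul u.1 : N).2, u.2⟩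
      rw [h, Subgroup.mem_bot] at hmem
      exact hu (Subtype.ext (Additive.toMul.injective (Subtype.ext hmem)))
    rw [eq_top_iff]
    intro x _
    obtain ⟨u, ⟨huN, hu⟩, he⟩ := hgen U' hU'n hU'ne (e (Additive.toMul x))
    have : Additive.toMul x = ⟨u, huN⟩ := Subtype.ext (hinj _ (Additive.toMul x).2 u huN he.symm)
    have hx : x = Additive.ofMul (⟨u, huN⟩ : N) := by rw [← this]; rfl
    exact hx ▸ hu
  have hcardN : Nat.card (Additive N) = Nat.card Ω := Nat.card_congr (Additive.toMul.trans e)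
  have hHodd : Odd (Nat.card H) := hG.of_dvd_nat (Subgroup.card_subgroup_dvd_card H)
  have hHsq : Nat.card H ≤ Nat.card Ω * Nat.card Ω := by
    obtain ⟨v, w, hvw⟩ := hb H (Additive N) hHodd inferInstance hirr.isCR (by omega)
    rw [← hcardN, ← Nat.card_prod]
    refine Nat.card_le_card_of_injective (fun h : H => (h • v, h • w)) fun g h hgh => ?_
    have h1 : (h⁻¹ * g) • v = v := by
      rw [mul_smul, show g • v = h • v from congrArg Prod.fst hgh, inv_smul_smul]
    have h2 : (h⁻¹ * g) • w = w := by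
      rw [mul_smul, show g • w = h • w from congrArg Prod.snd hgh, inv_smul_smul]
    have h3 : h⁻¹ * g = 1 := FaithfulSMul.eq_of_smul_eq_smul fun x : Additive N =>
      (hvw _ h1 h2 x).trans (one_smul H x).symm
    exact (inv_mul_eq_one.mp h3).symm
  have : Nontrivial (Additive N) := (Additive.toMul.trans e).nontrivial
  obtain ⟨p, k, hp, hexp, hpk, hk0⟩ := exists_prime_exponent hirr
  rw [hcardN] at hpk
  -- fixed points
  have hfix : ∀ g : G, g ≠ 1 → p * Nat.card {x : Ω // g • x = x} ≤ Nat.card Ω := by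
    intro g hg
    by_cases hnone : IsEmpty {x : Ω // g • x = x}
    · simp [Nat.card_of_isEmpty]
    obtain ⟨⟨b, hb'⟩⟩ := not_isEmpty_iff.mp hnone
    obtain ⟨u, hu, hub⟩ := hgen N hN hNne b
    let h0 : H := ⟨u⁻¹ * g * u, by
      show (u⁻¹ * g * u) • a = a
      rw [mul_smul, mul_smul, hub, hb', ← hub, inv_smul_smul]⟩
    let F : AddSubgroup (Additive N) :=
      { carrier := {x | h0 • x = x}
        zero_mem' := smul_zero h0
        add_mem' := fun {x y} (hx : h0 • x = x) (hy : h0 • y = y) => by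
          show h0 • (x + y) = x + y
          rw [smul_add, hx, hy]
        neg_mem' := fun {x} (hx : h0 • x = x) => by show h0 • -x = -x; rw [smul_neg, hx] }
    have hcardF : Nat.card {x : Ω // g • x = x} = Nat.card F := by
      refine Nat.card_congr ((Equiv.subtypeEquiv ((Additive.toMul.trans e).trans (MulAction.toPerm u))
        fun x => ?_).symm)
      show h0 • x = x ↔ g • u • e (Additive.toMul x) = u • e (Additive.toMul x)
      rw [← (Additive.toMul.trans e).apply_eq_iff_eq]
      show e (Additive.toMul (h0 • x)) = e (Additive.toMul x) ↔ _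
      rw [hequiv]
      show (u⁻¹ * g * u) • _ = _ ↔ _
      rw [mul_smul, mul_smul, inv_smul_eq_iff]
    rw [hcardF]
    have hlt : F ≠ ⊤ := by
      intro htop
      have h1 : h0 = 1 := FaithfulSMul.eq_of_smul_eq_smul fun x : Additive N =>
        (show x ∈ F by rw [htop]; trivial).trans (one_smul H x).symm
      have h2 : u⁻¹ * g * u = 1 := congrArg Subtype.val h1
      apply hg
      calc g = u * (u⁻¹ * g * u) * u⁻¹ := by group
        _ = 1 := by rw [h2]; group
    obtain ⟨i, hi, hFi⟩ := (Nat.dvd_prime_pow hp).mp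
      (show Nat.card F ∣ p ^ k from hpk ▸ hcardN ▸ AddSubgroup.card_addSubgroup_dvd_card F)
    have hik : i < k := lt_of_le_of_ne hi fun h => hlt (AddSubgroup.eq_top_of_card_eq F
      (by rw [hFi, h, hcardN, hpk]))
    rw [hFi, hpk, ← pow_succ']
    exact Nat.pow_le_pow_right hp.pos hik
  have hGc : Nat.card G = Nat.card Ω * Nat.card H := by
    rw [← Subgroup.card_mul_index H, MulAction.index_stabilizer_of_transitive, mul_comm]
  have hmodd : Odd (Nat.card Ω) := hG.of_dvd_nat ⟨_, hGc⟩
  have hp3 : 3 ≤ p := by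
    have := hp.two_le
    rcases (show p = 2 ∨ 3 ≤ p by omega) with rfl | h
    · rw [hpk] at hmodd
      exact absurd hmodd (by simp [Nat.odd_iff, Nat.pow_mod, zero_pow hk0.ne'])
    · exact h
  have : Fact p.Prime := ⟨hp⟩
  -- the numerical cases
  by_cases hk1 : k = 1
  · subst hk1
    rw [pow_one] at hpk
    have hd := card_dvd_GL (G := H) (W := Additive N) (p := p) (k := 1) hexp (by rw [hcardN, hpk, pow_one])
    simp only [Fin.prod_univ_one, pow_one, Fin.val_zero, pow_zero] at hd
    have h2 : 2 * Nat.card H ≤ p - 1 := by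
      refine Nat.le_of_dvd (by omega) ((Nat.coprime_two_left.mpr hHodd).mul_dvd_of_dvd_of_dvd ?_ hd)
      have := hp.eq_two_or_odd
      omega
    refine exists_set_of_count hG 1 (fun g hg => ?_) ?_
    · have := hfix g hg
      rw [hpk] at this
      exact Nat.le_of_mul_le_mul_left (by omega) hp.pos
    · rw [hGc, hpk]
      have hsmall : ∀ q : ℕ, 3 ≤ q → q ≠ 4 → q * q * 2 ^ ((q + 2 * 1) / 3) < 4 * 2 ^ q := by
        intro q
        induction q using Nat.strong_induction_on with
        | _ q ih =>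
          intro hq hq4
          rcases Nat.lt_or_ge q 9 with h | h
          · interval_cases q <;> first | omega | norm_num
          · have h1 := ih (q - 3) (by omega) (by omega) (by omega)
            obtain ⟨r, rfl⟩ : ∃ r, q = r + 3 := ⟨q - 3, by omega⟩
            rw [show r + 3 - 3 = r by omega] at h1
            rw [show (r + 3 + 2 * 1) / 3 = (r + 2 * 1) / 3 + 1 by omega, pow_succ, pow_add]
            have : (r + 3) * (r + 3) ≤ 4 * (r * r) := by nlinarith
            calc (r + 3) * (r + 3) * (2 ^ ((r + 2 * 1) / 3) * 2)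
                ≤ 4 * (r * r) * (2 ^ ((r + 2 * 1) / 3) * 2) := Nat.mul_le_mul_right _ this
              _ = 8 * (r * r * 2 ^ ((r + 2 * 1) / 3)) := by ring
              _ < 8 * (4 * 2 ^ r) := by linarith
              _ = _ := by ring
      have := hsmall p hp3 (fun h => by rw [h] at hp; norm_num at hp)
      have : 2 * (p * Nat.card H) ≤ p * p := by
        calc 2 * (p * Nat.card H) = p * (2 * Nat.card H) := by ring
          _ ≤ p * p := Nat.mul_le_mul_left _ (by omega)
      have : 2 * (p * Nat.card H) * 2 ^ ((p + 2 * 1) / 3) ≤ p * p * 2 ^ ((p + 2 * 1) / 3) :=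
        Nat.mul_le_mul_right _ this
      linarith
  have hk2 : 2 ≤ k := by omega
  refine exists_set_of_count hG (Nat.card Ω / p) (fun g hg => ?_) ?_
  · rw [Nat.le_div_iff_mul_le hp.pos, mul_comm]; exact hfix g hg
  rw [hGc]
  rcases Nat.lt_or_ge (Nat.card Ω) 33 with hm | hm
  · have hp5 : p ≤ 5 := by
      have : p * p ≤ Nat.card Ω := by rw [hpk, ← pow_two]; exact Nat.pow_le_pow_right hp.pos hk2
      nlinarith
    have hk4 : k < 4 := by
      by_contra h
      have : 3 ^ 4 ≤ p ^ k := (Nat.pow_le_pow_left hp3 4).trans (Nat.pow_le_pow_right hp.pos (by omega))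
      omega
    interval_cases p
    · interval_cases k
      · have := card_le_of_nine (G := H) hHodd hirr.isCR hexp (by rw [hcardN, hpk]; norm_num)
        rw [hpk, this]; norm_num
      · have := card_le_of_twentyseven (G := H) hHodd hirr hexp (by rw [hcardN, hpk]; norm_num)
        rw [hpk]; norm_num; omega
    · exact absurd hp (by norm_num)
    · interval_cases k
      · have := card_le_of_twentyfive (G := H) hHodd hirr.isCR hexp (by rw [hcardN, hpk]; norm_num)
        rw [hpk]; norm_num; omega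
      · omega
  · have hL := arith_large (Nat.card Ω) (by omega)
    have hd : 3 * (Nat.card Ω / p) ≤ Nat.card Ω :=
      (Nat.mul_le_mul_right _ hp3).trans (Nat.mul_div_le _ _)
    generalize hK : (Nat.card Ω + 2 * (Nat.card Ω / p)) / 3 = K
    have hK9 : 9 * K ≤ 5 * Nat.card Ω := by omega
    have h9 : (Nat.card Ω * Nat.card H * 2 ^ K) ^ 9 < (2 * 2 ^ Nat.card Ω) ^ 9 := by
      calc (Nat.card Ω * Nat.card H * 2 ^ K) ^ 9
          ≤ (Nat.card Ω * (Nat.card Ω * Nat.card Ω) * 2 ^ K) ^ 9 := Nat.pow_le_pow_left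
            (Nat.mul_le_mul_right _ (Nat.mul_le_mul_left _ hHsq)) 9
        _ = Nat.card Ω ^ 27 * 2 ^ (9 * K) := by rw [mul_pow, ← pow_mul, Nat.mul_comm K 9]; ring
        _ < 2 ^ (4 * Nat.card Ω + 9) * 2 ^ (9 * K) := Nat.mul_lt_mul_of_pos_right hL (by positivity)
        _ ≤ 2 ^ (4 * Nat.card Ω + 9) * 2 ^ (5 * Nat.card Ω) :=
            Nat.mul_le_mul_left _ (Nat.pow_le_pow_right (by norm_num) hK9)
        _ = (2 * 2 ^ Nat.card Ω) ^ 9 := by rw [← pow_add, ← pow_succ', ← pow_mul]; ring_nf
    exact lt_of_pow_lt_pow_left₀ 9 (Nat.zero_le _) h9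

theorem subset_aux (n : ℕ) (hb : Below.{u} n) :
    ∀ m < n, ∀ (G Ω : Type u) [Group G] [Finite G] [Finite Ω] [MulAction G Ω],
    Odd (Nat.card G) → Group.IsSolvable G → Nat.card Ω = m →
      ∃ T : Set Ω, ∀ g : G, (∀ x, g • x ∈ T ↔ x ∈ T) → ∀ x : Ω, g • x = x := by
  intro m
  induction m using Nat.strong_induction_on with
  | _ m ih =>
    intro hmn G Ω _ _ _ _ hG hs hΩ
    classical
    rcases subsingleton_or_nontrivial Ω with hsub | hnt
    · exact ⟨∅, fun g _ x => Subsingleton.elim _ _⟩
    have small : ∀ S : Set Ω, S ≠ Set.univ → Nat.card S < m := fun S hS => by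
      rw [← hΩ, Nat.card_coe_set_eq, ← Set.ncard_univ]
      exact Set.ncard_lt_ncard (Set.ssubset_univ_iff.mpr hS) (Set.toFinite _)
    obtain ⟨a⟩ := (inferInstance : Nonempty Ω)
    by_cases htr : MulAction.orbit G a = Set.univ
    swap
    · let S1 : SubMulAction G Ω :=
        { carrier := MulAction.orbit G a
          smul_mem' := fun g {x} hx => MulAction.mem_orbit_of_mem_orbit g hx }
      let S2 : SubMulAction G Ω :=
        { carrier := (MulAction.orbit G a)ᶜ
          smul_mem' := fun g {x} hx hgx => hx (by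
            simpa using MulAction.mem_orbit_of_mem_orbit g⁻¹ hgx) }
      have h2 : (MulAction.orbit G a)ᶜ ≠ Set.univ := fun h => by
        have : a ∈ (MulAction.orbit G a)ᶜ := by rw [h]; trivial
        exact this (MulAction.mem_orbit_self a)
      obtain ⟨T1, hT1⟩ := ih _ (small _ htr) (lt_trans (small _ htr) hmn) G S1 hG hs rfl
      obtain ⟨T2, hT2⟩ := ih _ (small _ h2) (lt_trans (small _ h2) hmn) G S2 hG hs rfl
      refine ⟨Subtype.val '' T1 ∪ Subtype.val '' T2, fun g hg x => ?_⟩
      by_cases hx : x ∈ MulAction.orbit G a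
      · refine congrArg Subtype.val (hT1 g (fun y => ?_) (⟨x, hx⟩ : S1))
        have key : ∀ y : S1, (y : Ω) ∈ Subtype.val '' T1 ∪ Subtype.val '' T2 ↔ y ∈ T1 := by
          intro y
          constructor
          · rintro (⟨z, hz, he⟩ | ⟨z, hz, he⟩)
            · exact Subtype.ext he ▸ hz
            · exact absurd (he ▸ y.2 : z.1 ∈ MulAction.orbit G a) z.2
          · exact fun h => Or.inl ⟨y, h, rfl⟩
        rw [← key, ← key]; exact hg _
      · refine congrArg Subtype.val (hT2 g (fun y => ?_) (⟨x, hx⟩ : S2))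
        have key : ∀ y : S2, (y : Ω) ∈ Subtype.val '' T1 ∪ Subtype.val '' T2 ↔ y ∈ T2 := by
          intro y
          constructor
          · rintro (⟨z, hz, he⟩ | ⟨z, hz, he⟩)
            · exact absurd (he ▸ z.2 : y.1 ∈ MulAction.orbit G a) y.2
            · exact Subtype.ext he ▸ hz
          · exact fun h => Or.inr ⟨y, h, rfl⟩
        rw [← key, ← key]; exact hg _
    have : MulAction.IsPretransitive G Ω := ⟨fun x y => by
      obtain ⟨g, rfl⟩ := (htr ▸ Set.mem_univ x : x ∈ MulAction.orbit G a)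
      obtain ⟨h, rfl⟩ := (htr ▸ Set.mem_univ y : y ∈ MulAction.orbit G a)
      exact ⟨h * g⁻¹, by simp [mul_smul]⟩⟩
    let H := MulAction.stabilizer G a
    by_cases hmax : ∀ K : Subgroup G, H < K → K = ⊤
    · -- primitive: pass to the image in the symmetric group
      let φ := MulAction.toPermHom G Ω
      let R := φ.range
      have : MulAction.IsPretransitive R Ω := ⟨fun x y => by
        obtain ⟨g, hg⟩ := MulAction.exists_smul_eq G x y
        exact ⟨φ.rangeRestrict g, hg⟩⟩
      have hsR : Group.IsSolvable R := Group.isSolvable_of_surjective φ.rangeRestrict_surjective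
      have hmaxR : ∀ K : Subgroup R, MulAction.stabilizer R a < K → K = ⊤ := by
        intro K hK
        have h := hmax (K.comap φ.rangeRestrict) (lt_of_le_of_ne (fun g hg => hK.le hg) fun he => by
          refine hK.ne (le_antisymm hK.le fun r hr => ?_)
          obtain ⟨g, rfl⟩ := φ.rangeRestrict_surjective r
          have : g ∈ H := he ▸ hr
          exact this)
        rw [eq_top_iff]
        intro r _
        obtain ⟨g, rfl⟩ := φ.rangeRestrict_surjective r
        exact (show g ∈ K.comap φ.rangeRestrict by rw [h]; trivial)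
      obtain ⟨T, hT⟩ := primitive_case (hG.of_dvd_nat (Subgroup.card_range_dvd φ)) hsR
        (hb.mono (by omega)) a hmaxR
      refine ⟨T, fun g hg x => ?_⟩
      have h1 := hT (φ.rangeRestrict g) hg
      have h2 : φ g = 1 := congrArg Subtype.val h1
      exact Equiv.congr_fun h2 x
    · simp only [not_forall] at hmax
      obtain ⟨K, hHK, hK⟩ := hmax
      have h1 : Nat.card (G ⧸ K) < m := by
        rw [← hΩ, ← MulAction.index_stabilizer_of_transitive G a, ← Subgroup.index_eq_card]
        exact Subgroup.index_strictAnti hHK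
      obtain ⟨T, hT⟩ := ih _ h1 (lt_trans h1 hmn) G (G ⧸ K) hG hs rfl
      let F : Set Ω := {x | ∃ k ∈ K, k • a = x}
      have hmemK : ∀ g : G, g • a ∈ F → g ∈ K := by
        rintro g ⟨k, hk, he⟩
        have : k⁻¹ * g ∈ H := by
          show (k⁻¹ * g) • a = a
          rw [mul_smul, ← he, inv_smul_smul]
        simpa using mul_mem hk (hHK.le this)
      have hFne : F ≠ Set.univ := fun h => hK (eq_top_iff.mpr fun g _ =>
        hmemK g (by rw [h]; trivial))
      let FS : SubMulAction K Ω :=
        { carrier := F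
          smul_mem' := by
            rintro k x ⟨k', hk', rfl⟩
            exact ⟨k.1 * k', mul_mem k.2 hk', mul_smul _ _ _⟩ }
      have hKodd : Odd (Nat.card K) := hG.of_dvd_nat (Subgroup.card_subgroup_dvd_card K)
      obtain ⟨S, hS⟩ := ih _ (small F hFne) (lt_trans (small F hFne) hmn) K FS hKodd inferInstance rfl
      have noswap : ∀ k : K, ¬ ∀ y : FS, k • y ∈ S ↔ y ∉ S := by
        intro k h
        have hk2 := hS (k * k) (fun y => by rw [mul_smul, h, h, not_not])
        let y : FS := ⟨a, 1, one_mem K, one_smul G a⟩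
        have := h y
        rw [smul_eq_of_sq hKodd k y ((mul_smul k k y).symm.trans (hk2 y))] at this
        tauto
      let r : G ⧸ K → G := Quotient.out
      have hr : ∀ c, (QuotientGroup.mk (r c) : G ⧸ K) = c := fun c => QuotientGroup.out_eq' c
      -- every point lies in exactly one translate of F
      have hcos : ∀ (c : G ⧸ K) (g : G), (r c)⁻¹ • g • a ∈ F ↔ (QuotientGroup.mk g : G ⧸ K) = c := by
        intro c g
        constructor
        · intro h
          have := hmemK ((r c)⁻¹ * g) (by rwa [mul_smul])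
          rw [← hr c]
          exact (QuotientGroup.eq.mpr this).symm
        · intro h
          refine ⟨(r c)⁻¹ * g, ?_, mul_smul _ _ _⟩
          rw [← QuotientGroup.eq]
          exact (hr c).trans h.symm
      let X : Set Ω := {x | ∃ (c : G ⧸ K) (hx : (r c)⁻¹ • x ∈ F),
        ((⟨_, hx⟩ : FS) ∈ S ↔ c ∈ T)}
      have huniq : ∀ (x : Ω) (c c' : G ⧸ K), (r c)⁻¹ • x ∈ F → (r c')⁻¹ • x ∈ F → c = c' := by
        intro x c c' h h'
        obtain ⟨g, rfl⟩ := MulAction.exists_smul_eq G a x
        exact ((hcos c g).mp h).symm.trans ((hcos c' g).mp h')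
      have hX : ∀ (c : G ⧸ K) (y : FS), r c • y.1 ∈ X ↔ (y ∈ S ↔ c ∈ T) := by
        intro c y
        have hy : (r c)⁻¹ • r c • y.1 ∈ F := by rw [inv_smul_smul]; exact y.2
        constructor
        · rintro ⟨c', hx, h⟩
          obtain rfl := huniq _ _ _ hx hy
          convert h using 2
          simp
        · intro h
          refine ⟨c, hy, ?_⟩
          convert h using 2
          simp
      refine ⟨X, fun g hg x => ?_⟩
      let kk : G ⧸ K → K := fun c => ⟨(r (g • c))⁻¹ * g * r c, by
        rw [mul_assoc, ← QuotientGroup.eq, hr]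
        conv_lhs => rw [← hr c]
        rfl⟩
      have hk : ∀ (c : G ⧸ K) (y : FS), (kk c • y ∈ S ↔ g • c ∈ T) ↔ (y ∈ S ↔ c ∈ T) := by
        intro c y
        rw [← hX, ← hX]
        have : r (g • c) • (kk c • y).1 = g • r c • y.1 := by
          show r (g • c) • ((r (g • c))⁻¹ * g * r c) • y.1 = _
          rw [mul_smul, mul_smul, smul_inv_smul]
        rw [this]; exact hg _
      have hcT : ∀ c, g • c ∈ T ↔ c ∈ T := by
        intro c
        by_contra hne
        exact noswap (kk c) fun y => by have := hk c y; tauto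
      have hc1 := hT g hcT
      obtain ⟨c, hxc⟩ : ∃ c : G ⧸ K, (r c)⁻¹ • x ∈ F := by
        obtain ⟨g', rfl⟩ := MulAction.exists_smul_eq G a x
        exact ⟨QuotientGroup.mk g', (hcos _ g').mpr rfl⟩
      have hfixy := hS (kk c) (fun y => by have := hk c y; have := hcT c; tauto) ⟨_, hxc⟩
      have h2 : ((r (g • c))⁻¹ * g * r c) • (r c)⁻¹ • x = (r c)⁻¹ • x := congrArg Subtype.val hfixy
      rw [hc1 c, mul_smul, mul_smul, smul_inv_smul] at h2
      exact MulAction.injective _ h2

theorem subsetBelow_of_below {n : ℕ} (hb : Below.{u} n) : SubsetBelow.{u} n :=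
  fun G Ω _ _ _ _ hG hs hlt => subset_aux n hb _ hlt G Ω hG hs rfl

end CfsgLib.BaseTwo
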