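import Mathlib
/-
Two-point bases for odd order groups acting completely reducibly on finite abelian groups:
definitions and the reduction to irreducible groups.
-/
set_option autoImplicit false

universe u

namespace CfsgLib.BaseTwo

/-- every invariant additive subgroup has an invariant complement -/
def IsCR (A V : Type*) [SMul A V] [AddCommGroup V] : Prop :=
  ∀ U : AddSubgroup V, (∀ a : A, ∀ v ∈ U, a • v ∈ U) →
    ∃ W : AddSubgroup V, (∀ a : A, ∀ w ∈ W, a • w ∈ W) ∧ U ⊓ W = ⊥ ∧ U ⊔ W = ⊤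

/-- no invariant additive subgroups besides the two trivial ones -/
def IsIrr (A V : Type*) [SMul A V] [AddCommGroup V] : Prop :=
  ∀ U : AddSubgroup V, (∀ a : A, ∀ v ∈ U, a • v ∈ U) → U = ⊥ ∨ U = ⊤

theorem IsIrr.isCR {A V : Type*} [Monoid A] [AddCommGroup V] [DistribMulAction A V] (h : IsIrr A V) : IsCR A V := by
  intro U hU
  rcases h U hU with rfl | rfl
  · exact ⟨⊤, fun _ _ _ => AddSubgroup.mem_top _, inf_top_eq _, bot_sup_eq _⟩
  · refine ⟨⊥, fun a w hw => ?_, inf_bot_eq _, sup_bot_eq _⟩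
    rw [AddSubgroup.mem_bot] at hw ⊢
    rw [hw, smul_zero]

/-- the pair property for all smaller modules -/
def Below (n : ℕ) : Prop :=
  ∀ (A V : Type u) [Group A] [Finite A] [AddCommGroup V] [Finite V] [DistribMulAction A V],
    Odd (Nat.card A) → Group.IsSolvable A → IsCR A V → Nat.card V < n →
      ∃ v w : V, ∀ a : A, a • v = v → a • w = w → ∀ x : V, a • x = x

variable {A V : Type u} [Group A] [Finite A] [AddCommGroup V] [Finite V] [DistribMulAction A V]

theorem Below.mono {m n : ℕ} (h : Below.{u} n) (hmn : m ≤ n) : Below.{u} m :=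
  fun A V _ _ _ _ _ ho hs hc hlt => h A V ho hs hc (lt_of_lt_of_le hlt hmn)

/-- the action on an invariant subgroup -/
abbrev subAction {A V : Type*} [Group A] [AddCommGroup V] [DistribMulAction A V] (U : AddSubgroup V) (hU : ∀ a : A, ∀ v ∈ U, a • v ∈ U) : DistribMulAction A U where
  smul a v := ⟨a • (v : V), hU a v v.2⟩
  one_smul v := Subtype.ext (one_smul A (v : V))
  mul_smul a b v := Subtype.ext (mul_smul a b (v : V))
  smul_zero a := Subtype.ext (smul_zero a)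
  smul_add a v w := Subtype.ext (smul_add a (v : V) (w : V))

theorem Below.sub {n : ℕ} (h : Below.{u} n) (hA : Odd (Nat.card A)) (hs : Group.IsSolvable A)
    (U : AddSubgroup V) (hU : ∀ a : A, ∀ v ∈ U, a • v ∈ U)
    (hcr : ∀ X : AddSubgroup V, X ≤ U → (∀ a : A, ∀ v ∈ X, a • v ∈ X) →
      ∃ Y : AddSubgroup V, Y ≤ U ∧ (∀ a : A, ∀ v ∈ Y, a • v ∈ Y) ∧ X ⊓ Y = ⊥ ∧ X ⊔ Y = U)
    (hlt : Nat.card U < n) :
    ∃ v ∈ U, ∃ w ∈ U, ∀ a : A, a • v = v → a • w = w → ∀ x ∈ U, a • x = x := by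
  let : DistribMulAction A U := subAction U hU
  have hc : IsCR A U := by
    intro X hX
    obtain ⟨Y, hYU, hY, hinf, hsup⟩ := hcr (X.map U.subtype)
      (by rintro _ ⟨x, -, rfl⟩; exact x.2)
      (by rintro a _ ⟨x, hx, rfl⟩; exact ⟨a • x, hX a x hx, rfl⟩)
    refine ⟨Y.comap U.subtype, fun a w hw => hY a _ hw, ?_, ?_⟩
    · rw [eq_bot_iff]
      rintro x ⟨hx, hy⟩
      have : (x : V) ∈ X.map U.subtype ⊓ Y := ⟨⟨x, hx, rfl⟩, hy⟩
      rw [hinf, AddSubgroup.mem_bot] at this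
      exact AddSubgroup.mem_bot.mpr (Subtype.ext this)
    · rw [eq_top_iff]
      intro x _
      have hx : (x : V) ∈ X.map U.subtype ⊔ Y := by rw [hsup]; exact x.2
      obtain ⟨_, ⟨a, ha, rfl⟩, b, hb, hab⟩ := AddSubgroup.mem_sup.mp hx
      exact AddSubgroup.mem_sup.mpr ⟨a, ha, ⟨b, hYU hb⟩, hb, Subtype.ext hab⟩
  obtain ⟨v, w, hvw⟩ := h A U hA hs hc hlt
  exact ⟨v, v.2, w, w.2, fun a hv hw x hx =>
    congrArg Subtype.val (hvw a (Subtype.ext hv) (Subtype.ext hw) ⟨x, hx⟩)⟩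

omit [Finite A] [Finite V] in
theorem IsCR.inherit (h : IsCR A V) (U : AddSubgroup V) (hU : ∀ a : A, ∀ v ∈ U, a • v ∈ U) :
    ∀ X : AddSubgroup V, X ≤ U → (∀ a : A, ∀ v ∈ X, a • v ∈ X) →
      ∃ Y : AddSubgroup V, Y ≤ U ∧ (∀ a : A, ∀ v ∈ Y, a • v ∈ Y) ∧ X ⊓ Y = ⊥ ∧ X ⊔ Y = U := by
  intro X hXU hX
  obtain ⟨Z, hZ, hinf, hsup⟩ := h X hX
  refine ⟨Z ⊓ U, inf_le_right, fun a v hv => ⟨hZ a v hv.1, hU a v hv.2⟩, ?_, ?_⟩
  · rw [eq_bot_iff, ← hinf]; exact inf_le_inf le_rfl inf_le_left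
  · refine le_antisymm (sup_le hXU inf_le_right) fun u hu => ?_
    obtain ⟨x, hx, z, hz, hxz⟩ := AddSubgroup.mem_sup.mp (show u ∈ X ⊔ Z by rw [hsup]; trivial)
    refine AddSubgroup.mem_sup.mpr ⟨x, hx, z, ⟨hz, ?_⟩, hxz⟩
    have : z = u - x := by rw [← hxz]; abel
    exact this ▸ U.sub_mem hu (hXU hx)

/-- reducible case -/
theorem pair_of_not_irr {n : ℕ} (hb : Below.{u} n) (hn : Nat.card V ≤ n) (hA : Odd (Nat.card A))
    (hs : Group.IsSolvable A) (hcr : IsCR A V) (hni : ¬ IsIrr A V) :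
    ∃ v w : V, ∀ a : A, a • v = v → a • w = w → ∀ x : V, a • x = x := by
  simp only [IsIrr, not_forall, not_or] at hni
  obtain ⟨U, hU, hU1, hU2⟩ := hni
  obtain ⟨W, hW, hinf, hsup⟩ := hcr U hU
  have hW2 : W ≠ ⊤ := by rintro rfl; exact hU1 (by simpa using hinf)
  have small : ∀ X : AddSubgroup V, X ≠ ⊤ → Nat.card X < n := fun X hX =>
    lt_of_lt_of_le (lt_of_le_of_ne (Nat.card_le_card_of_injective _ Subtype.val_injective)
      fun h => hX (AddSubgroup.eq_top_of_card_eq X h)) hn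
  obtain ⟨u1, hu1, u2, hu2, huu⟩ := hb.sub hA hs U hU (hcr.inherit U hU) (small U hU2)
  obtain ⟨w1, hw1, w2, hw2, hww⟩ := hb.sub hA hs W hW (hcr.inherit W hW) (small W hW2)
  have split : ∀ (a : A) (x y : V), x ∈ U → y ∈ W → a • (x + y) = x + y → a • x = x ∧ a • y = y := by
    intro a x y hx hy he
    rw [smul_add] at he
    have h1 : a • x - x = y - a • y := by
      rw [sub_eq_sub_iff_add_eq_add, he]; abel
    have h2 : a • x - x ∈ U ⊓ W :=
      ⟨U.sub_mem (hU a x hx) hx, h1 ▸ W.sub_mem hy (hW a y hy)⟩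
    rw [hinf, AddSubgroup.mem_bot] at h2
    refine ⟨sub_eq_zero.mp h2, ?_⟩
    rw [h2] at h1
    exact (sub_eq_zero.mp h1.symm).symm
  refine ⟨u1 + w1, u2 + w2, fun a h1 h2 x => ?_⟩
  obtain ⟨e1, f1⟩ := split a u1 w1 hu1 hw1 h1
  obtain ⟨e2, f2⟩ := split a u2 w2 hu2 hw2 h2
  obtain ⟨p, hp, q, hq, rfl⟩ := AddSubgroup.mem_sup.mp (show x ∈ U ⊔ W by rw [hsup]; trivial)
  rw [smul_add, huu a e1 e2 p hp, hww a f1 f2 q hq]

/-- an element of odd order whose square fixes a point fixes that point -/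
theorem smul_eq_of_sq {G α : Type*} [Group G] [Finite G] [MulAction G α] (hG : Odd (Nat.card G))
    (k : G) (x : α) (h : k • k • x = x) : k • x = x := by
  have h2 : k ^ 2 ∈ MulAction.stabilizer G x := by
    rw [MulAction.mem_stabilizer_iff, sq, mul_smul]; exact h
  have hk : k ∈ MulAction.stabilizer G x := by
    obtain ⟨m, hm⟩ := hG.of_dvd_nat (orderOf_dvd_natCard k)
    have : k = (k ^ 2) ^ (m + 1) := by
      rw [← pow_mul, show 2 * (m + 1) = orderOf k + 1 by omega, pow_add, pow_orderOf_eq_one]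
      simp
    rw [this]; exact Subgroup.pow_mem _ h2 _
  exact hk

/-- a normal subgroup of prime power order acts trivially on an irreducible module of that prime -/
theorem fixes_of_normal_pGroup {G W : Type*} [Group G] [Finite G] [AddCommGroup W] [Finite W]
    [DistribMulAction G W] {p : ℕ} [Fact p.Prime] (hW : IsCR G W) (hWp : ∀ w : W, p • w = 0)
    (P : Subgroup G) [P.Normal] (hP : IsPGroup p P) : ∀ g ∈ P, ∀ w : W, g • w = w := by
  let F : AddSubgroup W :=
    { carrier := {w | ∀ g ∈ P, g • w = w}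
      zero_mem' := fun g _ => smul_zero g
      add_mem' := fun {a b} ha hb g hg => by rw [smul_add, ha g hg, hb g hg]
      neg_mem' := fun {a} ha g hg => by rw [smul_neg, ha g hg] }
  have hF : ∀ g : G, ∀ w ∈ F, g • w ∈ F := by
    intro g w hw k hk
    have : g⁻¹ * k * g ∈ P := by
      have := Subgroup.Normal.conj_mem inferInstance k hk g⁻¹
      simpa using this
    calc k • g • w = g • (g⁻¹ * k * g) • w := by
          rw [← mul_smul, ← mul_smul]; congr 1; group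
      _ = g • w := by rw [hw _ this]
  obtain ⟨Y, hY, hinf, hsup⟩ := hW F hF
  have hY0 : Y = ⊥ := by
    by_contra hne
    let : DistribMulAction P Y := subAction Y (fun g v hv => hY (g : G) v hv)
    have hpd : p ∣ Nat.card Y := by
      obtain ⟨y, hy, hy0⟩ := (AddSubgroup.ne_bot_iff_exists_ne_zero.mp hne |>
        fun ⟨a, ha⟩ => ⟨(a : W), a.2, fun h => ha (Subtype.ext h)⟩ : ∃ y ∈ Y, y ≠ (0 : W))
      have ho : addOrderOf (⟨y, hy⟩ : Y) = p :=
        addOrderOf_eq_prime (Subtype.ext (hWp y)) fun h => hy0 (congrArg Subtype.val h)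
      exact ho ▸ addOrderOf_dvd_natCard _
    obtain ⟨b, hb, hne'⟩ := hP.exists_fixed_point_of_prime_dvd_card_of_fixed_point Y hpd
      (a := 0) (fun g => smul_zero g)
    have hbF : (b : W) ∈ F := fun g hg => congrArg Subtype.val (hb ⟨g, hg⟩)
    have : (b : W) ∈ F ⊓ Y := ⟨hbF, b.2⟩
    rw [hinf, AddSubgroup.mem_bot] at this
    exact hne' (Subtype.ext this.symm)
  rw [hY0, sup_bot_eq] at hsup
  intro g hg w
  exact (show w ∈ F by rw [hsup]; trivial) g hg

end CfsgLib.BaseTwo
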