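import Cfsg.Agent.Lib.BaseTwo.Semilinear
/-
Counting pairs of vectors fixed by nontrivial elements.
-/
set_option autoImplicit false

namespace CfsgLib.BaseTwo

variable {G V : Type*} [Group G] [Finite G] [AddCommGroup V] [Finite V] [DistribMulAction G V]

/-- the number of pairs fixed by `g` -/
noncomputable def pairWeight (V : Type*) [SMul G V] (g : G) : ℕ :=
  Nat.card {v : V // g • v = v} ^ 2

omit [Finite G] [Finite V] in
theorem card_prod_fixed (g : G) :
    Nat.card {x : V × V // g • x.1 = x.1 ∧ g • x.2 = x.2} = pairWeight V g := by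
  rw [pairWeight, sq, ← Nat.card_prod]
  exact Nat.card_congr
    { toFun := fun x => (⟨x.1.1, x.2.1⟩, ⟨x.1.2, x.2.2⟩)
      invFun := fun x => ⟨(x.1.1, x.2.1), x.1.2, x.2.2⟩
      left_inv := fun _ => rfl
      right_inv := fun _ => rfl }

theorem pair_of_count [Fintype G] [DecidableEq G] (hG : Odd (Nat.card G))
    (hc : ∑ g ∈ Finset.univ.erase (1 : G), pairWeight V g < 2 * (Nat.card V * Nat.card V)) :
    ∃ v w : V, ∀ g : G, g • v = v → g • w = w → ∀ x : V, g • x = x := by
  classical
  by_contra hbad
  simp only [not_exists, not_forall] at hbad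
  have : Fintype V := Fintype.ofFinite V
  let P : G → V × V → Prop := fun g x => g • x.1 = x.1 ∧ g • x.2 = x.2
  have hlow : ∀ x : V × V, 3 ≤ (Finset.univ.filter fun g => P g x).card := by
    intro x
    let S : Subgroup G := MulAction.stabilizer G x.1 ⊓ MulAction.stabilizer G x.2
    have hS : Nat.card S = (Finset.univ.filter fun g => P g x).card := by
      rw [← Nat.card_eq_finsetCard]
      exact Nat.card_congr (Equiv.subtypeEquivRight fun g => by
        simp only [Finset.mem_filter, Finset.mem_univ, true_and]; rfl)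
    obtain ⟨g, hg1, hg2, y, hy⟩ := hbad x.1 x.2
    have h1 : Nat.card S ≠ 1 := fun h => hy (by
      rw [show g = 1 from congrArg Subtype.val
        ((Nat.card_eq_one_iff_unique.mp h).1.elim (⟨g, hg1, hg2⟩ : S) 1), one_smul])
    obtain ⟨j, hj⟩ := hG.of_dvd_nat (Subgroup.card_subgroup_dvd_card S)
    omega
  have h1 : 3 * (Nat.card V * Nat.card V) ≤ ∑ x : V × V, (Finset.univ.filter fun g => P g x).card := by
    refine le_trans (le_of_eq ?_) (Finset.sum_le_sum fun x _ => hlow x)
    rw [Finset.sum_const, Finset.card_univ, smul_eq_mul, mul_comm, Fintype.card_prod,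
      ← Nat.card_eq_fintype_card]
  have h2 : ∑ x : V × V, (Finset.univ.filter fun g => P g x).card =
      ∑ g : G, pairWeight V g := by
    simp only [Finset.card_filter]
    rw [Finset.sum_comm]
    refine Finset.sum_congr rfl fun g _ => ?_
    rw [← Finset.card_filter, ← card_prod_fixed, Nat.card_eq_fintype_card, Fintype.card_subtype]
  rw [h2, ← Finset.add_sum_erase _ _ (Finset.mem_univ (1 : G))] at h1
  have : pairWeight V (1 : G) ≤ Nat.card V * Nat.card V := by
    rw [pairWeight, sq]
    exact Nat.mul_le_mul (Nat.card_le_card_of_injective _ Subtype.val_injective)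
      (Nat.card_le_card_of_injective _ Subtype.val_injective)
  omega

end CfsgLib.BaseTwo
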