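import Cfsg.Agent.Lib.BaseTwo.Setup
/-
The layer over the scalars: the product of the minimal normal subgroups over `A` inside the
centraliser, with its commutator pairing.
-/
set_option autoImplicit false
set_option linter.unusedSectionVars false

universe u

open scoped commutatorElement

namespace CfsgLib.BaseTwo

variable {K V H : Type u} [Field K] [Finite K] [AddCommGroup V] [Finite V] [Nontrivial V]
  [Module K V] [Group H] [Finite H] [DistribMulAction H V] [FaithfulSMul H V]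

/-- `χ` extended by zero to the whole group -/
noncomputable def Setup.χ' (S : Setup K V H) (x : H) : K :=
  open Classical in if hx : x ∈ S.A then S.χ ⟨x, hx⟩ else 0

namespace Setup

variable (S : Setup K V H)

theorem χ'_spec {x : H} (hx : x ∈ S.A) (v : V) : x • v = S.χ' x • v := by
  rw [Setup.χ', dif_pos hx]; exact S.χ_spec ⟨x, hx⟩ v

theorem χ'_mul {x y : H} (hx : x ∈ S.A) (hy : y ∈ S.A) : S.χ' (x * y) = S.χ' x * S.χ' y := by
  rw [Setup.χ', Setup.χ', Setup.χ', dif_pos hx, dif_pos hy, dif_pos (S.A.mul_mem hx hy), ← S.χ_mul]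
  rfl

theorem χ'_one : S.χ' 1 = 1 := by
  rw [Setup.χ', dif_pos (one_mem _)]; exact S.χ_one

theorem χ'_ne {x : H} (hx : x ∈ S.A) : S.χ' x ≠ 0 := by
  rw [Setup.χ', dif_pos hx]; exact S.χ_ne _

theorem χ'_eq_one {x : H} (hx : x ∈ S.A) (h : S.χ' x = 1) : x = 1 := by
  rw [Setup.χ', dif_pos hx, ← S.χ_one] at h
  exact congrArg Subtype.val (S.χ_inj h)

theorem A_central {a h : H} (ha : a ∈ S.A) (hh : h ∈ S.C) : a * h = h * a :=
  Subgroup.mem_centralizer_iff.mp hh a ha

theorem comm_mul_left {x x' y : H} (hx : x ∈ S.C) (hc : ⁅x', y⁆ ∈ S.A) :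
    ⁅x * x', y⁆ = ⁅x', y⁆ * ⁅x, y⁆ := by
  have h := S.A_central hc hx
  calc ⁅x * x', y⁆ = x * ⁅x', y⁆ * (y * x⁻¹ * y⁻¹) := by simp only [commutatorElement_def]; group
    _ = ⁅x', y⁆ * ⁅x, y⁆ := by rw [← h]; simp only [commutatorElement_def]; group

theorem comm_mul_right {x y y' : H} (hy : y ∈ S.C) (hc : ⁅x, y'⁆ ∈ S.A) :
    ⁅x, y * y'⁆ = ⁅x, y⁆ * ⁅x, y'⁆ := by
  have h := S.A_central hc hy
  calc ⁅x, y * y'⁆ = (x * y * x⁻¹) * (⁅x, y'⁆ * y⁻¹) := by simp only [commutatorElement_def]; group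
    _ = (x * y * x⁻¹) * (y⁻¹ * ⁅x, y'⁆) := by
        rw [show ⁅x, y'⁆ * y⁻¹ = y⁻¹ * ⁅x, y'⁆ from S.A_central hc (S.C.inv_mem hy)]
    _ = ⁅x, y⁆ * ⁅x, y'⁆ := by simp only [commutatorElement_def]; group

/-- a pairing with commutators in `A` bounds the index of its kernel -/
theorem relIndex_le (X Y Y0 : Subgroup H) (hX : X ≤ S.C) (hY : Y ≤ S.C)
    (hc : ∀ x ∈ X, ∀ y ∈ Y, ⁅x, y⁆ ∈ S.A) (h0 : ∀ x ∈ X, ∀ y ∈ Y0, x * y = y * x) :
    (Subgroup.centralizer (Y : Set H)).relIndex X ≤ Y0.relIndex Y := by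
  classical
  let Φ : X → (Y →* K) := fun x =>
    { toFun := fun y => S.χ' ⁅(x : H), (y : H)⁆
      map_one' := by simp [S.χ'_one]
      map_mul' := fun y y' => by
        rw [Subgroup.coe_mul, S.comm_mul_right (hY y.2) (hc x x.2 y' y'.2),
          S.χ'_mul (hc x x.2 y y.2) (hc x x.2 y' y'.2)] }
  let N := (Subgroup.centralizer (Y : Set H)).subgroupOf X
  show N.index ≤ (Y0.subgroupOf Y).index
  rw [Subgroup.index_eq_card N]
  let Ψ : X ⧸ N → (Y →* K) := fun q => Φ (Quotient.out q)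
  refine card_characters_le (Y0.subgroupOf Y) Ψ ?_ ?_
  · intro p q hpq
    rw [← QuotientGroup.out_eq' p, ← QuotientGroup.out_eq' q]
    refine QuotientGroup.eq.mpr (Subgroup.mem_centralizer_iff.mpr fun y hy => ?_)
    let a : X := Quotient.out p
    let b : X := Quotient.out q
    have heq : S.χ' ⁅(a : H), y⁆ = S.χ' ⁅(b : H), y⁆ :=
      DFunLike.congr_fun hpq (⟨y, hy⟩ : Y)
    have hm : ⁅((a⁻¹ * b : X) : H), y⁆ ∈ S.A := hc _ (a⁻¹ * b).2 y hy
    have h2 : ⁅(b : H), y⁆ = ⁅((a⁻¹ * b : X) : H), y⁆ * ⁅(a : H), y⁆ := by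
      rw [← S.comm_mul_left (hX a.2) hm]; simp
    rw [h2, S.χ'_mul hm (hc a a.2 y hy)] at heq
    exact (commutatorElement_eq_one_iff_mul_comm.mp (S.χ'_eq_one hm
      (mul_right_cancel₀ (S.χ'_ne (hc a a.2 y hy)) (heq.symm.trans (one_mul _).symm)))).symm
  · intro q y hy
    show S.χ' ⁅((Quotient.out q : X) : H), (y : H)⁆ = 1
    rw [commutatorElement_eq_one_iff_mul_comm.mpr
      (h0 _ (Quotient.out q : X).2 (y : H) (Subgroup.mem_subgroupOf.mp hy)), S.χ'_one]

/-- minimal normal subgroups over `A` inside the centraliser -/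
def IsMinOver (D : Subgroup H) : Prop :=
  D.Normal ∧ S.A < D ∧ D ≤ S.C ∧ ∀ E : Subgroup H, E.Normal → S.A ≤ E → E ≤ D → E = S.A ∨ E = D

theorem exists_minOver (M : Subgroup H) (hM : M.Normal) (hAM : S.A < M) (hMC : M ≤ S.C) :
    ∃ D, S.IsMinOver D ∧ D ≤ M := by
  classical
  let Ds : Finset (Subgroup H) := (Set.toFinite {D : Subgroup H | D.Normal ∧ S.A < D ∧ D ≤ M}).toFinset
  have hne : Ds.Nonempty := ⟨M, (Set.Finite.mem_toFinset _).mpr ⟨hM, hAM, le_rfl⟩⟩
  obtain ⟨D, hD, hmin⟩ := Finset.exists_min_image Ds (fun D => Nat.card D) hne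
  obtain ⟨hDn, hAD, hDM⟩ := (Set.Finite.mem_toFinset _).mp hD
  refine ⟨D, ⟨hDn, hAD, hDM.trans hMC, fun E hEn hAE hED => ?_⟩, hDM⟩
  rcases hAE.eq_or_lt with h | h
  · exact Or.inl h.symm
  · exact Or.inr (Subgroup.eq_of_le_of_card_ge hED
      (hmin E ((Set.Finite.mem_toFinset _).mpr ⟨hEn, h, hED.trans hDM⟩)))

/-- the layer -/
def B : Subgroup H := sSup {D | S.IsMinOver D}

theorem le_B {D : Subgroup H} (hD : S.IsMinOver D) : D ≤ S.B := le_sSup hD

theorem B_le_C : S.B ≤ S.C := sSup_le fun _ hD => hD.2.2.1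

theorem B_normal : S.B.Normal := by
  refine ⟨fun x hx g => ?_⟩
  have hle : S.B ≤ S.B.comap (MulAut.conj g).toMonoidHom :=
    sSup_le fun D hD y hy => S.le_B hD (hD.1.conj_mem y hy g)
  exact hle hx

theorem A_le_B (hC : S.C ≠ S.A) : S.A ≤ S.B := by
  obtain ⟨D, hD, -⟩ := S.exists_minOver S.C S.C_normal (lt_of_le_of_ne S.A_le_C (Ne.symm hC)) le_rfl
  exact hD.2.1.le.trans (S.le_B hD)

theorem minOver_comm {D D' : Subgroup H} (hD : S.IsMinOver D) (hD' : S.IsMinOver D') :
    ⁅D, D'⁆ ≤ S.A := by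
  have := hD.1; have := hD'.1; have := S.normal
  by_cases h : D = D'
  · subst h
    have hn : (⁅D, D⁆ ⊔ S.A).Normal := Subgroup.sup_normal _ _
    rcases hD.2.2.2 _ hn le_sup_right (sup_le (Subgroup.commutator_le_left D D) hD.2.1.le) with h | h
    · exact sup_eq_right.mp h
    · exfalso
      let M : Subgroup (H ⧸ S.A) := D.map (QuotientGroup.mk' S.A)
      have hMM : ⁅M, M⁆ = M := by
        conv_rhs => rw [show M = (⁅D, D⁆ ⊔ S.A).map (QuotientGroup.mk' S.A) by rw [h]]
        rw [Subgroup.map_sup, Subgroup.map_commutator,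
          (QuotientGroup.map_mk'_self S.A), sup_bot_eq]
      have hsM : Group.IsSolvable M := by
        have := S.solv
        infer_instance
      by_cases hb : M = ⊥
      · exact absurd ((QuotientGroup.ker_mk' S.A ▸ (Subgroup.map_eq_bot_iff _).mp hb :
          D ≤ S.A)) (not_le_of_gt hD.2.1)
      · have hd : ∀ j, derivedSeries M j = ⊤ := by
          intro j
          induction j with
          | zero => exact derivedSeries_zero _
          | succ j ih =>
            rw [derivedSeries_succ, ih]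
            refine Subgroup.map_injective M.subtype_injective ?_
            rw [Subgroup.map_commutator, ← MonoidHom.range_eq_map, Subgroup.range_subtype, hMM]
        obtain ⟨j, hj⟩ := hsM.solvable
        rw [hd j] at hj
        exact hb ((Subgroup.eq_bot_iff_forall _).mpr fun x hx => congrArg Subtype.val
          ((Subgroup.eq_bot_iff_forall _).mp hj ⟨x, hx⟩ trivial))
  · refine (Subgroup.commutator_le_inf D D').trans ?_
    rcases hD.2.2.2 (D ⊓ D') inferInstance (le_inf hD.2.1.le hD'.2.1.le) inf_le_left with h1 | h1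
    · exact h1.le
    · rcases hD'.2.2.2 D hD.1 hD.2.1.le (inf_eq_left.mp h1) with h2 | h2
      · exact absurd h2.symm hD.2.1.ne
      · exact absurd h2 h

theorem B_comm : ∀ x ∈ S.B, ∀ y ∈ S.B, ⁅x, y⁆ ∈ S.A := by
  have hA := S.normal
  let π := QuotientGroup.mk' S.A
  have key : ∀ D, S.IsMinOver D → S.B ≤ (Subgroup.centralizer ((D.map π : Subgroup _) : Set (H ⧸ S.A))).comap π := by
    intro D hD
    refine sSup_le fun D' hD' x hx => ?_
    rw [Subgroup.mem_comap, Subgroup.mem_centralizer_iff]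
    rintro _ ⟨d, hd, rfl⟩
    rw [← map_mul, ← map_mul]
    refine QuotientGroup.eq.mpr ?_
    have h1 : ⁅x⁻¹, d⁻¹⁆ ∈ S.A :=
      S.minOver_comm hD' hD (Subgroup.commutator_mem_commutator (inv_mem hx) (inv_mem hd))
    simpa [commutatorElement_def, mul_assoc] using h1
  have key2 : S.B ≤ (Subgroup.centralizer ((S.B.map π : Subgroup _) : Set (H ⧸ S.A))).comap π := by
    refine sSup_le fun D hD x hx => ?_
    rw [Subgroup.mem_comap, Subgroup.mem_centralizer_iff]
    rintro _ ⟨b, hb, rfl⟩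
    exact (Subgroup.mem_centralizer_iff.mp (key D hD hb) (π x) ⟨x, hx, rfl⟩).symm
  intro x hx y hy
  refine (QuotientGroup.eq_one_iff _).mp ?_
  show π ⁅x, y⁆ = 1
  rw [map_commutatorElement, commutatorElement_eq_one_iff_mul_comm]
  exact (Subgroup.mem_centralizer_iff.mp (key2 hx) (π y) ⟨y, hy, rfl⟩).symm

/-- nothing in the centraliser outside `A` centralises the layer -/
theorem centralizer_B (hC : S.C ≠ S.A) {x : H} (hx : x ∈ S.C)
    (hxB : x ∈ Subgroup.centralizer (S.B : Set H)) : x ∈ S.A := by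
  have := S.C_normal; have := S.B_normal
  by_contra hxA
  let M : Subgroup H := S.C ⊓ Subgroup.centralizer (S.B : Set H)
  have hMn : M.Normal := inferInstanceAs (S.C ⊓ Subgroup.centralizer (S.B : Set H)).Normal
  have hAM : S.A < M := by
    refine lt_of_le_of_ne (le_inf S.A_le_C fun a ha => Subgroup.mem_centralizer_iff.mpr fun b hb =>
      (S.A_central ha (S.B_le_C hb)).symm) fun h => hxA (h ▸ ⟨hx, hxB⟩)
  obtain ⟨D, hD, hDM⟩ := S.exists_minOver M hMn hAM inf_le_left
  exact hD.2.1.ne (S.max D hD.1 hD.2.1.le fun a ha b hb =>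
    (Subgroup.mem_centralizer_iff.mp (hDM hb).2 a (S.le_B hD ha))).symm

theorem centralizer_B_relIndex (hC : S.C ≠ S.A) {X : Subgroup H} (hX : X ≤ S.C) :
    (Subgroup.centralizer (S.B : Set H)).relIndex X = S.A.relIndex X := by
  rw [← Subgroup.inf_relIndex_right (Subgroup.centralizer _), ← Subgroup.inf_relIndex_right S.A]
  congr 1
  exact le_antisymm (fun x hx => ⟨S.centralizer_B hC (hX hx.2) hx.1, hx.2⟩)
    (fun x hx => ⟨Subgroup.mem_centralizer_iff.mpr fun b hb =>
      (S.A_central hx.1 (S.B_le_C hb)).symm, hx.2⟩)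

/-- the elements of the centraliser acting trivially on the layer modulo `A` lie in the layer -/
theorem mem_B_of_comm (hC : S.C ≠ S.A) {x : H} (hx : x ∈ S.C)
    (hxc : ∀ b ∈ S.B, ⁅x, b⁆ ∈ S.A) : x ∈ S.B := by
  let D0 : Subgroup H :=
    { carrier := {h | h ∈ S.C ∧ ∀ b ∈ S.B, ⁅h, b⁆ ∈ S.A}
      one_mem' := ⟨one_mem _, fun b _ => by simp⟩
      mul_mem' := fun {a b} ha hb => ⟨mul_mem ha.1 hb.1, fun c hc => by
        rw [S.comm_mul_left ha.1 (hb.2 c hc)]; exact mul_mem (hb.2 c hc) (ha.2 c hc)⟩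
      inv_mem' := fun {a} ha => ⟨inv_mem ha.1, fun c hc => by
        have h1 := S.comm_mul_left (x := a⁻¹) (x' := a) (inv_mem ha.1) (ha.2 c hc)
        rw [inv_mul_cancel, commutatorElement_one_left] at h1
        rw [eq_inv_of_mul_eq_one_right h1.symm]
        exact inv_mem (ha.2 c hc)⟩ }
  have hBD : S.B ≤ D0 := fun b hb => ⟨S.B_le_C hb, S.B_comm b hb⟩
  have hAB := S.A_le_B hC
  have hD0C : ∀ d ∈ D0, d ∈ S.C := fun d hd => (hd : d ∈ S.C ∧ _).1
  have h1 := S.relIndex_le D0 S.B S.A hD0C S.B_le_C (fun d hd => (hd : d ∈ S.C ∧ _).2)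
    (fun d hd a ha => (S.A_central ha (hD0C d hd)).symm)
  rw [S.centralizer_B_relIndex hC hD0C,
    ← Subgroup.relIndex_mul_relIndex S.A S.B D0 hAB hBD] at h1
  have hpos : 0 < S.A.relIndex S.B := Nat.pos_of_ne_zero Subgroup.index_ne_zero_of_finite
  have h2 : S.B.relIndex D0 = 1 := by
    have : 0 < S.B.relIndex D0 := Nat.pos_of_ne_zero Subgroup.index_ne_zero_of_finite
    nlinarith
  exact Subgroup.relIndex_eq_one.mp h2 (show x ∈ D0 from ⟨hx, hxc⟩)

/-- the order of the layer modulo `A` is a square -/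
theorem exists_square (hC : S.C ≠ S.A) : ∃ e : ℕ, S.A.relIndex S.B = e ^ 2 := by
  classical
  let Ls : Finset (Subgroup H) := (Set.toFinite {L : Subgroup H |
    S.A ≤ L ∧ L ≤ S.B ∧ ∀ a ∈ L, ∀ b ∈ L, a * b = b * a}).toFinset
  have hne : Ls.Nonempty := ⟨S.A, (Set.Finite.mem_toFinset _).mpr ⟨le_rfl, S.A_le_B hC, S.comm⟩⟩
  obtain ⟨L, hL, hmax⟩ := Finset.exists_max_image Ls (fun L => Nat.card L) hne
  obtain ⟨hAL, hLB, hLc⟩ := (Set.Finite.mem_toFinset _).mp hL
  have hLC : L ≤ S.C := hLB.trans S.B_le_C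
  have hcl : ∀ x ∈ S.B, x ∈ Subgroup.centralizer (L : Set H) → x ∈ L := by
    intro x hx hxc
    have hgen : ∀ a ∈ Subgroup.closure (insert x (L : Set H)),
        ∀ b ∈ Subgroup.closure (insert x (L : Set H)), a * b = b * a := by
      intro a ha b hb
      let : IsMulCommutative (Subgroup.closure (insert x (L : Set H))) :=
        Subgroup.isMulCommutative_closure (by
          intro p hp q hq
          rcases hp with rfl | hp <;> rcases hq with rfl | hq
          · rfl
          · exact (Subgroup.mem_centralizer_iff.mp hxc q hq).symm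
          · exact Subgroup.mem_centralizer_iff.mp hxc p hp
          · exact hLc p hp q hq)
      exact congrArg Subtype.val (mul_comm' (⟨a, ha⟩ : Subgroup.closure (insert x (L : Set H))) ⟨b, hb⟩)
    have hle : L ≤ Subgroup.closure (insert x (L : Set H)) := fun y hy =>
      Subgroup.subset_closure (Set.mem_insert_of_mem _ hy)
    have heq := Subgroup.eq_of_le_of_card_ge hle (hmax _ ((Set.Finite.mem_toFinset _).mpr
      ⟨hAL.trans hle, (Subgroup.closure_le _).mpr (Set.insert_subset hx hLB), hgen⟩))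
    exact heq ▸ Subgroup.subset_closure (Set.mem_insert _ _)
  have hcomm : ∀ x ∈ S.B, ∀ y ∈ L, ⁅x, y⁆ ∈ S.A := fun x hx y hy => S.B_comm x hx y (hLB hy)
  have h1 := S.relIndex_le S.B L S.A S.B_le_C hLC hcomm
    (fun x hx a ha => (S.A_central ha (S.B_le_C hx)).symm)
  have e1 : (Subgroup.centralizer (L : Set H)).relIndex S.B = L.relIndex S.B := by
    rw [← Subgroup.inf_relIndex_right (Subgroup.centralizer _), ← Subgroup.inf_relIndex_right L]
    congr 1
    exact le_antisymm (fun x hx => ⟨hcl x hx.2 hx.1, hx.2⟩)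
      (fun x hx => ⟨Subgroup.mem_centralizer_iff.mpr fun b hb => hLc b hb x hx.1, hx.2⟩)
  rw [e1] at h1
  have h2 := S.relIndex_le L S.B L hLC S.B_le_C
    (fun y hy x hx => by
      rw [← commutatorElement_inv]; exact inv_mem (hcomm x hx y hy)) hLc
  rw [S.centralizer_B_relIndex hC hLC] at h2
  refine ⟨L.relIndex S.B, ?_⟩
  rw [← Subgroup.relIndex_mul_relIndex S.A L S.B hAL hLB, le_antisymm h2 h1]
  ring

theorem exists_pairing_ne (hC : S.C ≠ S.A) {x : H} (hx : x ∈ S.B) (hxA : x ∉ S.A) :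
    ∃ y ∈ S.B, ⁅x, y⁆ ≠ 1 := by
  by_contra h
  push Not at h
  exact hxA (S.centralizer_B hC (S.B_le_C hx) (Subgroup.mem_centralizer_iff.mpr fun y hy =>
    (commutatorElement_eq_one_iff_mul_comm.mp (h y hy)).symm))

theorem prime_dvd_sub_one (hC : S.C ≠ S.A) {r : ℕ} (hr : r.Prime) (hrd : r ∣ S.A.relIndex S.B) :
    r ∣ Nat.card K - 1 := by
  classical
  have : Fact r.Prime := ⟨hr⟩
  have := S.normal
  obtain ⟨q, hq⟩ := exists_prime_orderOf_dvd_card' (G := S.B ⧸ S.A.subgroupOf S.B) r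
    (by rw [← Subgroup.index_eq_card]; exact hrd)
  obtain ⟨x, rfl⟩ := QuotientGroup.mk_surjective q
  have hxA : (x : H) ∉ S.A := fun h => hr.ne_one (by
    rw [← hq, orderOf_eq_one_iff, QuotientGroup.eq_one_iff]; exact h)
  have hxr : (x : H) ^ r ∈ S.A := by
    have : (QuotientGroup.mk (x ^ r) : S.B ⧸ S.A.subgroupOf S.B) = 1 := by
      rw [QuotientGroup.mk_pow, ← hq, pow_orderOf_eq_one]
    simpa using Subgroup.mem_subgroupOf.mp ((QuotientGroup.eq_one_iff _).mp this)
  obtain ⟨y, hy, hne⟩ := S.exists_pairing_ne hC x.2 hxA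
  have hc := S.B_comm x x.2 y hy
  have hpow : ∀ j : ℕ, S.χ' ⁅(x : H) ^ j, y⁆ = S.χ' ⁅(x : H), y⁆ ^ j := by
    intro j
    induction j with
    | zero => simp [S.χ'_one]
    | succ j ih =>
      have hj : ⁅(x : H) ^ j, y⁆ ∈ S.A := S.B_comm _ (pow_mem x.2 j) y hy
      rw [pow_succ, S.comm_mul_left (pow_mem (S.B_le_C x.2) j) hc, S.χ'_mul hc hj, ih]
      ring
  have h1 : S.χ' ⁅(x : H), y⁆ ^ r = 1 := by
    rw [← hpow, commutatorElement_eq_one_iff_mul_comm.mpr (S.A_central hxr (S.B_le_C hy)), S.χ'_one]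
  let z : Kˣ := Units.mk0 _ (S.χ'_ne hc)
  have hz : orderOf z = r := by
    refine orderOf_eq_prime (Units.ext (by simpa [z] using h1)) fun h => hne (S.χ'_eq_one hc ?_)
    simpa [z] using congrArg Units.val h
  rw [← hz, ← Nat.card_units]
  exact orderOf_dvd_natCard z

/-- the translations by representatives of the layer are independent -/
theorem relIndex_le_finrank_sq (hC : S.C ≠ S.A) :
    S.A.relIndex S.B ≤ Module.finrank K V ^ 2 := by
  classical
  let N := S.A.subgroupOf S.B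
  have : Fintype (S.B ⧸ N) := Fintype.ofFinite _
  let rep : S.B ⧸ N → S.B := Quotient.out
  let L : S.B ⧸ N → (V →ₗ[K] V) := fun q => S.lin ⟨(rep q : H), S.B_le_C (rep q).2⟩
  have hchar : ∀ (y : S.B) (q : S.B ⧸ N) (v : V),
      L q ((y : H) • v) = S.χ' ⁅(rep q : H), (y : H)⁆ • ((y : H) • L q v) := by
    intro y q v
    show (rep q : H) • (y : H) • v = _ • (y : H) • (rep q : H) • v
    rw [← S.χ'_spec (S.B_comm _ (rep q).2 _ y.2), ← mul_smul (y : H), ← mul_smul, ← mul_smul]
    congr 1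
    simp [commutatorElement_def, mul_assoc]
  have hli : LinearIndependent K L := by
    rw [Fintype.linearIndependent_iff]
    intro c hc q0
    -- the characters attached to different cosets are different
    let φ : S.B ⧸ N → (S.B →* K) := fun q =>
      { toFun := fun y => S.χ' ⁅(rep q : H), (y : H)⁆
        map_one' := by simp [S.χ'_one]
        map_mul' := fun y y' => by
          rw [Subgroup.coe_mul, S.comm_mul_right (S.B_le_C y.2) (S.B_comm _ (rep q).2 y' y'.2),
            S.χ'_mul (S.B_comm _ (rep q).2 y y.2) (S.B_comm _ (rep q).2 y' y'.2)] }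
    have hφ : Function.Injective φ := by
      intro p q hpq
      rw [← QuotientGroup.out_eq' p, ← QuotientGroup.out_eq' q]
      refine QuotientGroup.eq.mpr (Subgroup.mem_subgroupOf.mpr
        (S.centralizer_B hC (S.B_le_C ((rep p)⁻¹ * rep q).2)
          (Subgroup.mem_centralizer_iff.mpr fun y hy => ?_)))
      have heq : S.χ' ⁅(rep p : H), y⁆ = S.χ' ⁅(rep q : H), y⁆ :=
        DFunLike.congr_fun hpq (⟨y, hy⟩ : S.B)
      have hm : ⁅(((rep p)⁻¹ * rep q : S.B) : H), y⁆ ∈ S.A := S.B_comm _ ((rep p)⁻¹ * rep q).2 y hy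
      have h2 : ⁅(rep q : H), y⁆ = ⁅(((rep p)⁻¹ * rep q : S.B) : H), y⁆ * ⁅(rep p : H), y⁆ := by
        rw [← S.comm_mul_left (S.B_le_C (rep p).2) hm]; simp
      have hp := S.B_comm _ (rep p).2 y hy
      rw [h2, S.χ'_mul hm hp] at heq
      exact (commutatorElement_eq_one_iff_mul_comm.mp (S.χ'_eq_one hm
        (mul_right_cancel₀ (S.χ'_ne hp) (heq.symm.trans (one_mul _).symm)))).symm
    have hind := Fintype.linearIndependent_iff.mp
      ((linearIndependent_monoidHom S.B K).comp φ hφ)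
    by_contra hq0
    obtain ⟨v, hv⟩ := exists_ne (0 : V)
    obtain ⟨f, hf⟩ : ∃ f : V →ₗ[K] K, f (L q0 v) ≠ 0 := by
      by_contra hall
      push Not at hall
      have h0 : L q0 v = 0 := (Module.forall_dual_apply_eq_zero_iff K _).mp hall
      exact hv (MulAction.injective (rep q0 : H) (h0.trans (smul_zero _).symm))
    have := hind (fun q => c q * f (L q v)) (funext fun y => by
      rw [Finset.sum_apply, Pi.zero_apply]
      have h1 : (∑ q, c q • L q) ((y : H) • v) = 0 := by rw [hc]; rfl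
      rw [LinearMap.sum_apply] at h1
      simp only [LinearMap.smul_apply, hchar] at h1
      have hlin : ∀ (a : K) (w : V), a • ((y : H) • w) = (y : H) • a • w := fun a w =>
        (S.C_linear (S.B_le_C y.2) a w).symm
      simp only [hlin, ← Finset.smul_sum] at h1
      have h2 : ∑ q, c q • S.χ' ⁅(rep q : H), (y : H)⁆ • L q v = 0 :=
        MulAction.injective (y : H) (h1.trans (smul_zero _).symm)
      have h3 := congrArg f h2
      rw [map_sum, map_zero] at h3
      refine Eq.trans ?_ h3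
      refine Finset.sum_congr rfl fun q _ => ?_
      rw [map_smul, map_smul]
      simp only [Function.comp_apply, Pi.smul_apply, smul_eq_mul]
      show c q * f (L q v) * S.χ' _ = _
      ring) q0
    exact (mul_ne_zero hq0 hf) this
  have h := hli.fintype_card_le_finrank
  rw [Module.finrank_linearMap, ← sq, ← Nat.card_eq_fintype_card] at h
  exact h

end Setup

end CfsgLib.BaseTwo
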