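import Cfsg.Agent.Lib.BaseTwo.Layer
import Cfsg.Agent.Lib.BaseTwo.Small
/-
The action on the layer modulo the scalars and the resulting bound on the centraliser.
-/
set_option autoImplicit false
set_option linter.unusedSectionVars false

universe u

open scoped commutatorElement

namespace CfsgLib.BaseTwo

variable {K V H : Type u} [Field K] [Finite K] [AddCommGroup V] [Finite V] [Nontrivial V]
  [Module K V] [Group H] [Finite H] [DistribMulAction H V] [FaithfulSMul H V]

namespace Setup

variable (S : Setup K V H)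

theorem layer_bound (hb : Below.{u} (Nat.card V)) (hC : S.C ≠ S.A) :
    ∃ e : ℕ, S.A.relIndex S.B = e ^ 2 ∧ Odd e ∧ 3 ≤ e ∧ e ≤ Module.finrank K V ∧
      S.B.relIndex S.C ≤ layerBound e := by
  classical
  have hA := S.normal
  let π := QuotientGroup.mk' S.A
  have hπ : ∀ {x y : H}, π x = π y ↔ x⁻¹ * y ∈ S.A := QuotientGroup.eq
  have hπ1 : ∀ {x : H}, π x = 1 ↔ x ∈ S.A := QuotientGroup.eq_one_iff _
  let M : Subgroup (H ⧸ S.A) := S.B.map π
  have hcommM : ∀ x y : M, x * y = y * x := by
    rintro ⟨_, a, ha, rfl⟩ ⟨_, b, hb', rfl⟩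
    refine Subtype.ext (show π a * π b = π b * π a from ?_)
    rw [← commutatorElement_eq_one_iff_mul_comm, ← map_commutatorElement]
    exact hπ1.mpr (S.B_comm a ha b hb')
  let : CommGroup M := { (inferInstance : Group M) with mul_comm := hcommM }
  have hconjM : ∀ (h : H) (x : M), π h * (x : H ⧸ S.A) * (π h)⁻¹ ∈ M := by
    rintro h ⟨_, b, hb', rfl⟩
    exact ⟨h * b * h⁻¹, S.B_normal.conj_mem b hb' h, by simp⟩
  let : DistribMulAction H (Additive M) :=
    { smul := fun h x => Additive.ofMul ⟨π h * ((Additive.toMul x : M) : H ⧸ S.A) * (π h)⁻¹, hconjM h _⟩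
      one_smul := fun x => Additive.toMul.injective (Subtype.ext (by
        show π 1 * _ * (π 1)⁻¹ = _
        simp))
      mul_smul := fun g h x => Additive.toMul.injective (Subtype.ext (by
        show π (g * h) * _ * (π (g * h))⁻¹ = π g * (π h * _ * (π h)⁻¹) * (π g)⁻¹
        rw [map_mul]; group))
      smul_zero := fun g => Additive.toMul.injective (Subtype.ext (by
        show π g * 1 * (π g)⁻¹ = 1
        simp))
      smul_add := fun g x y => Additive.toMul.injective (Subtype.ext (by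
        show π g * (((Additive.toMul x : M) : H ⧸ S.A) * ((Additive.toMul y : M) : H ⧸ S.A)) * (π g)⁻¹ =
          (π g * ((Additive.toMul x : M) : H ⧸ S.A) * (π g)⁻¹) *
            (π g * ((Additive.toMul y : M) : H ⧸ S.A) * (π g)⁻¹)
        group)) }
  let mk : (b : H) → b ∈ S.B → Additive M := fun b hb' => Additive.ofMul ⟨π b, b, hb', rfl⟩
  have mk_surj : ∀ w : Additive M, ∃ b hb', w = mk b hb' := by
    intro w
    obtain ⟨b, hb', he⟩ := (Additive.toMul w : M).2
    exact ⟨b, hb', Additive.toMul.injective (Subtype.ext he.symm)⟩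
  have mk_eq : ∀ {a b : H} (ha : a ∈ S.B) (hb' : b ∈ S.B), mk a ha = mk b hb' ↔ π a = π b :=
    fun ha hb' => ⟨fun h => congrArg (fun z : Additive M => ((Additive.toMul z : M) : H ⧸ S.A)) h,
      fun h => Additive.toMul.injective (Subtype.ext h)⟩
  have smul_mk : ∀ (h b : H) (hb' : b ∈ S.B), h • mk b hb' = mk (h * b * h⁻¹) (S.B_normal.conj_mem b hb' h) :=
    fun h b hb' => Additive.toMul.injective (Subtype.ext (by
      show π h * π b * (π h)⁻¹ = π (h * b * h⁻¹)
      simp))
  -- completely reducible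
  have hcr : IsCR H (Additive M) := by
    intro X hX
    let X' : Subgroup H :=
      { carrier := {b | ∃ hb' : b ∈ S.B, mk b hb' ∈ X}
        one_mem' := ⟨one_mem _, by
          convert X.zero_mem
          exact Additive.toMul.injective (Subtype.ext (map_one π))⟩
        mul_mem' := fun {a b} ⟨ha, ha'⟩ ⟨hb', hb''⟩ => ⟨mul_mem ha hb', by
          convert X.add_mem ha' hb''
          exact Additive.toMul.injective (Subtype.ext (map_mul π a b))⟩
        inv_mem' := fun {a} ⟨ha, ha'⟩ => ⟨inv_mem ha, by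
          convert X.neg_mem ha'
          exact Additive.toMul.injective (Subtype.ext (map_inv π a))⟩ }
    have hX'n : X'.Normal := ⟨fun b ⟨hb', hb''⟩ g =>
      ⟨S.B_normal.conj_mem b hb' g, smul_mk g b hb' ▸ hX g _ hb''⟩⟩
    have hAX' : S.A ≤ X' := fun a ha => ⟨S.A_le_B hC ha, by
      convert X.zero_mem
      exact Additive.toMul.injective (Subtype.ext (hπ1.mpr ha))⟩
    let Zs : Finset (Subgroup H) :=
      (Set.toFinite {Z : Subgroup H | Z.Normal ∧ S.A ≤ Z ∧ Z ≤ S.B ∧ X' ⊓ Z ≤ S.A}).toFinset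
    have hne : Zs.Nonempty :=
      ⟨S.A, (Set.Finite.mem_toFinset _).mpr ⟨hA, le_rfl, S.A_le_B hC, inf_le_right⟩⟩
    obtain ⟨Z, hZ, hmax⟩ := Finset.exists_max_image Zs (fun Z => Nat.card Z) hne
    obtain ⟨hZn, hAZ, hZB, hXZ⟩ := (Set.Finite.mem_toFinset _).mp hZ
    have hBle : S.B ≤ X' ⊔ Z := by
      refine sSup_le fun D hD => ?_
      by_contra hnle
      have := hD.1
      rcases hD.2.2.2 (D ⊓ (X' ⊔ Z)) inferInstance (le_inf hD.2.1.le (hAZ.trans le_sup_right))
        inf_le_left with hI | hI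
      swap
      · exact hnle (inf_eq_left.mp hI)
      have hle : X' ⊓ (Z ⊔ D) ≤ S.A := by
        rintro x ⟨hx, hx'⟩
        obtain ⟨z, hz, d, hd, rfl⟩ := Subgroup.mem_sup_of_normal_left.mp hx'
        have hdA : d ∈ S.A := hI ▸ (⟨hd, by
          have := mul_mem ((le_sup_right : Z ≤ X' ⊔ Z) (inv_mem hz)) ((le_sup_left : X' ≤ X' ⊔ Z) hx)
          simpa using this⟩ : d ∈ D ⊓ (X' ⊔ Z))
        exact hXZ ⟨hx, mul_mem hz (hAZ hdA)⟩
      have heq := Subgroup.eq_of_le_of_card_ge (le_sup_left : Z ≤ Z ⊔ D) (hmax _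
        ((Set.Finite.mem_toFinset _).mpr ⟨inferInstance, hAZ.trans le_sup_left,
          sup_le hZB (S.le_B hD), hle⟩))
      exact hnle ((le_sup_right : D ≤ Z ⊔ D).trans (heq.ge.trans le_sup_right))
    refine ⟨{ carrier := {w | ∃ b, ∃ hb' : b ∈ S.B, b ∈ Z ∧ w = mk b hb'}
              zero_mem' := ⟨1, one_mem _, one_mem _, by symm; exact Additive.toMul.injective (Subtype.ext (map_one π))⟩
              add_mem' := fun {v w} ⟨a, ha, haZ, hv⟩ ⟨b, hb', hbZ, hw⟩ => ⟨a * b, mul_mem ha hb', mul_mem haZ hbZ, by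
                subst hv hw; exact Additive.toMul.injective (Subtype.ext (map_mul π a b).symm)⟩
              neg_mem' := fun {v} ⟨a, ha, haZ, hv⟩ => ⟨a⁻¹, inv_mem ha, inv_mem haZ, by
                subst hv; exact Additive.toMul.injective (Subtype.ext (map_inv π a).symm)⟩ },
      ?_, ?_, ?_⟩
    · rintro g w ⟨b, hb', hbZ, rfl⟩
      exact ⟨g * b * g⁻¹, S.B_normal.conj_mem b hb' g, hZn.conj_mem b hbZ g, smul_mk g b hb'⟩
    · rw [eq_bot_iff]
      rintro w ⟨hwX, b, hb', hbZ, rfl⟩
      exact AddSubgroup.mem_bot.mpr (Additive.toMul.injective (Subtype.ext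
        (hπ1.mpr (hXZ ⟨⟨hb', hwX⟩, hbZ⟩))))
    · rw [eq_top_iff]
      intro w _
      obtain ⟨b, hb', rfl⟩ := mk_surj w
      obtain ⟨x, ⟨hx, hx'⟩, z, hz, rfl⟩ := Subgroup.mem_sup_of_normal_right.mp (hBle hb')
      exact AddSubgroup.mem_sup.mpr ⟨mk x hx, hx', mk z (hZB hz), ⟨z, hZB hz, hz, rfl⟩,
        Additive.toMul.injective (Subtype.ext (map_mul π x z).symm)⟩
  -- size
  have hcardW : Nat.card (Additive M) = S.A.relIndex S.B := by
    rw [Nat.card_congr Additive.toMul]
    show Nat.card (S.B.map π : Subgroup _) = _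
    rw [← Subgroup.relIndex_bot_left, ← Subgroup.map_bot π, Subgroup.relIndex_map_map, QuotientGroup.ker_mk', bot_sup_eq,
      sup_eq_left.mpr (S.A_le_B hC)]
  obtain ⟨e, he⟩ := S.exists_square hC
  have hAB : S.A < S.B := by
    obtain ⟨D, hD, -⟩ := S.exists_minOver S.C S.C_normal (lt_of_le_of_ne S.A_le_C (Ne.symm hC)) le_rfl
    exact hD.2.1.trans_le (S.le_B hD)
  have hw1 : S.A.relIndex S.B ≠ 1 := fun h =>
    not_le_of_gt hAB (Subgroup.relIndex_eq_one.mp h)
  have hwodd : Odd (S.A.relIndex S.B) := S.odd.of_dvd_nat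
    ((Subgroup.index_dvd_card _).trans (Subgroup.card_subgroup_dvd_card S.B))
  have heo : Odd e := by
    have h := hwodd
    rwa [he, Nat.odd_pow_iff two_ne_zero] at h
  have he3 : 3 ≤ e := by
    obtain ⟨j, hj⟩ := heo
    rcases Nat.eq_zero_or_pos j with rfl | hj0
    · rw [hj] at he; exact absurd he hw1
    · omega
  have hen : e ≤ Module.finrank K V :=
    (Nat.pow_le_pow_iff_left (by norm_num : 2 ≠ 0)).mp (he ▸ S.relIndex_le_finrank_sq hC)
  refine ⟨e, he, heo, he3, hen, ?_⟩
  -- the group induced on the layer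
  let φ : H →* (AddMonoid.End (Additive M))ˣ :=
    (DistribMulAction.toAddMonoidEnd H (Additive M)).toHomUnits
  let R := φ.range
  have hRodd : Odd (Nat.card R) := S.odd.of_dvd_nat (Subgroup.card_range_dvd φ)
  have : Finite R := Nat.finite_of_card_ne_zero (by obtain ⟨j, hj⟩ := hRodd; omega)
  have : FaithfulSMul R (Additive M) := ⟨fun {g h} hgh =>
    Subtype.ext (Units.ext (AddMonoidHom.ext hgh))⟩
  have hRcr : IsCR R (Additive M) := by
    intro X hX
    obtain ⟨Y, hY, h1, h2⟩ := hcr X (fun g w hw => hX ⟨φ g, g, rfl⟩ w hw)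
    refine ⟨Y, ?_, h1, h2⟩
    rintro ⟨_, g, rfl⟩ w hw
    exact hY g w hw
  have hc : S.B.relIndex S.C ≤ Nat.card R := by
    have hle : φ.ker ⊓ S.C ≤ S.B := by
      rintro h ⟨hk, hh⟩
      refine S.mem_B_of_comm hC hh fun b hb' => ?_
      have h1 : h • mk b hb' = mk b hb' :=
        congrArg (fun u : (AddMonoid.End (Additive M))ˣ => (u : AddMonoid.End (Additive M)) (mk b hb')) hk
      have h1 := (mk_eq (S.B_normal.conj_mem b hb' h) hb').mp ((smul_mk h b hb').symm.trans h1)
      refine hπ1.mp ?_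
      rw [show ⁅h, b⁆ = (h * b * h⁻¹) * b⁻¹ by rw [commutatorElement_def], map_mul, h1, ← map_mul,
        mul_inv_cancel, map_one]
    have h1 : S.B.relIndex S.C ∣ (φ.ker).relIndex S.C := by
      rw [← Subgroup.inf_relIndex_right φ.ker]
      exact Subgroup.relIndex_dvd_of_le_left S.C hle
    have h2 : S.B.relIndex S.C ∣ φ.ker.index := h1.trans (Subgroup.relIndex_dvd_index_of_normal φ.ker S.C)
    rw [Subgroup.index_ker] at h2
    exact Nat.le_of_dvd Nat.card_pos h2
  refine hc.trans ?_
  have exp_of : ∀ p : ℕ, p.Prime → ∀ k, Nat.card (Additive M) = p ^ k →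
      ∀ w : Additive M, p • w = 0 := by
    intro p hp k hk w
    let pW : AddSubgroup (Additive M) := (nsmulAddMonoidHom (α := Additive M) p).range
    obtain ⟨Y, hY, hinf, hsup⟩ := hcr pW (by
      rintro g _ ⟨x, rfl⟩
      exact ⟨g • x, (smul_comm g p x).symm⟩)
    have hY0 : ∀ y ∈ Y, p • y = 0 := fun y hy => by
      have : p • y ∈ pW ⊓ Y := ⟨⟨y, rfl⟩, Y.nsmul_mem hy p⟩
      rwa [hinf, AddSubgroup.mem_bot] at this
    have hstep : ∀ j, ∃ x, p • w = p ^ (j + 1) • x := by
      intro j
      induction j with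
      | zero => exact ⟨w, by rw [zero_add, pow_one]⟩
      | succ j ih =>
        obtain ⟨x, hx⟩ := ih
        obtain ⟨_, ⟨a, rfl⟩, y, hy, hxy⟩ :=
          AddSubgroup.mem_sup.mp (show x ∈ pW ⊔ Y by rw [hsup]; trivial)
        refine ⟨a, ?_⟩
        rw [hx, ← hxy, nsmul_add, pow_succ p j, mul_nsmul' y, hY0 y hy, nsmul_zero, add_zero,
          pow_succ p (j + 1), mul_nsmul' a, pow_succ p j]
        rfl
    obtain ⟨x, hx⟩ := hstep k
    rw [hx, pow_succ, mul_nsmul' x, ← hk, card_nsmul_eq_zero']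
  by_cases h3 : e = 3
  · subst h3
    rw [card_le_of_nine (G := R) hRodd hRcr (exp_of 3 (by norm_num) 2 (by rw [hcardW, he])) (by rw [hcardW, he]; norm_num)]
    simp [layerBound]
  by_cases h5 : e = 5
  · subst h5
    exact (card_le_of_twentyfive (G := R) hRodd hRcr (exp_of 5 (by norm_num) 2 (by rw [hcardW, he]))
      (by rw [hcardW, he]; norm_num)).trans (by simp [layerBound])
  by_cases h7 : e = 7
  · subst h7
    exact (card_le_of_fortynine (G := R) hRodd hRcr (exp_of 7 (by norm_num) 2 (by rw [hcardW, he]))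
      (by rw [hcardW, he]; norm_num)).trans (by simp [layerBound])
  by_cases h9 : e = 9
  · subst h9
    have hexp := exp_of 3 (by norm_num) 4 (by rw [hcardW, he]; norm_num)
    have hW81 : Nat.card (Additive M) = 81 := by rw [hcardW, he]; norm_num
    refine (card_le_of_eightyone (G := R) hRodd hRcr hexp hW81
      (not_thirteen_dvd (G := R) hexp hW81 fun f hf => ?_)).trans (by simp [layerBound])
    obtain ⟨b, hb', rfl⟩ := mk_surj f
    have hbA : b ∉ S.A := fun h => hf (Additive.toMul.injective (Subtype.ext (hπ1.mpr h)))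
    let U0 : Subgroup H := S.B ⊓ Subgroup.centralizer {b}
    have hAU : S.A ≤ U0 := fun a ha => ⟨S.A_le_B hC ha, Subgroup.mem_centralizer_iff.mpr fun y hy => by
      rw [Set.mem_singleton_iff.mp hy]; exact (S.A_central ha (S.B_le_C hb')).symm⟩
    have hU0B : U0 ≤ S.B := inf_le_left
    have hb3 : b ^ 3 ∈ S.A := by
      refine hπ1.mp ?_
      have := congrArg (fun z : Additive M => ((Additive.toMul z : M) : H ⧸ S.A)) (hexp (mk b hb'))
      simpa [mk] using this
    have h1 := S.relIndex_le S.B (Subgroup.zpowers b) (S.A ⊓ Subgroup.zpowers b) S.B_le_C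
      ((Subgroup.zpowers_le.mpr hb').trans S.B_le_C)
      (fun x hx y hy => S.B_comm x hx y (Subgroup.zpowers_le.mpr hb' hy))
      (fun x hx y hy => (S.A_central hy.1 (S.B_le_C hx)).symm)
    have e1 : (Subgroup.centralizer ((Subgroup.zpowers b : Subgroup H) : Set H)).relIndex S.B =
        U0.relIndex S.B := by
      rw [Subgroup.zpowers_eq_closure, Subgroup.centralizer_closure]
      exact (Subgroup.inf_relIndex_left _ _).symm
    have e2 : (S.A ⊓ Subgroup.zpowers b).relIndex (Subgroup.zpowers b) ≤ 3 := by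
      rw [Subgroup.inf_relIndex_right]
      have : S.A.relIndex (Subgroup.zpowers b) ∣ 3 := by
        have hz : ∀ q : Subgroup.zpowers b ⧸ S.A.subgroupOf (Subgroup.zpowers b), ∃ j < 3,
            q = QuotientGroup.mk (⟨b, Subgroup.mem_zpowers b⟩ ^ j) := by
          intro q
          obtain ⟨⟨_, i, rfl⟩, rfl⟩ := QuotientGroup.mk_surjective q
          refine ⟨(i % 3).toNat, by omega, QuotientGroup.eq.mpr (Subgroup.mem_subgroupOf.mpr ?_)⟩
          rw [Subgroup.coe_mul, Subgroup.coe_inv, SubgroupClass.coe_pow]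
          show (b ^ i)⁻¹ * b ^ (i % 3).toNat ∈ S.A
          rw [← zpow_natCast, Int.toNat_of_nonneg (Int.emod_nonneg _ (by norm_num)), ← zpow_neg,
            ← zpow_add, show -i + i % 3 = (3 : ℤ) * -(i / 3) by omega, zpow_mul]
          exact zpow_mem (by simpa using hb3) _
        have h2 := Subgroup.index_dvd_card (S.A.subgroupOf (Subgroup.zpowers b))
        have hle : Nat.card (Subgroup.zpowers b ⧸ S.A.subgroupOf (Subgroup.zpowers b)) ≤ 3 := by
          refine le_trans (Nat.card_le_card_of_surjective (fun j : Fin 3 =>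
            (QuotientGroup.mk ((⟨b, Subgroup.mem_zpowers b⟩ : Subgroup.zpowers b) ^ (j : ℕ)) :
              Subgroup.zpowers b ⧸ S.A.subgroupOf (Subgroup.zpowers b))) fun q => ?_) (by simp)
          obtain ⟨j, hj, rfl⟩ := hz q
          exact ⟨⟨j, hj⟩, rfl⟩
        have hodd : Odd (S.A.relIndex (Subgroup.zpowers b)) := S.odd.of_dvd_nat
          (h2.trans (Subgroup.card_subgroup_dvd_card _))
        have hle' : S.A.relIndex (Subgroup.zpowers b) ≤ 3 := hle
        obtain ⟨j, hj⟩ := hodd
        have : j = 0 ∨ j = 1 := by omega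
        rcases this with rfl | rfl <;> simp [hj]
      exact Nat.le_of_dvd (by norm_num) this
    rw [e1] at h1
    have hUidx : U0.relIndex S.B = 3 := by
      have hd : U0.relIndex S.B ∣ 3 ^ 4 := by
        rw [show (3 : ℕ) ^ 4 = S.A.relIndex S.B by rw [he]; norm_num]
        exact Subgroup.relIndex_dvd_of_le_left S.B hAU
      obtain ⟨i, hi, hUi⟩ := (Nat.dvd_prime_pow (by norm_num : Nat.Prime 3)).mp hd
      have hle : U0.relIndex S.B ≤ 3 := h1.trans e2
      have hne : U0.relIndex S.B ≠ 1 := by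
        intro h
        obtain ⟨y, hy, hyne⟩ := S.exists_pairing_ne hC hb' hbA
        exact hyne (commutatorElement_eq_one_iff_mul_comm.mpr
          (Subgroup.mem_centralizer_iff.mp ((Subgroup.relIndex_eq_one.mp h hy).2) b rfl))
      rw [hUi] at hle hne ⊢
      interval_cases i <;> simp_all
    have hU0 : S.A.relIndex U0 = 27 := by
      have := Subgroup.relIndex_mul_relIndex S.A U0 S.B hAU hU0B
      rw [hUidx, he] at this
      omega
    refine ⟨{ carrier := {w | ∃ x, ∃ hx : x ∈ S.B, x ∈ U0 ∧ w = mk x hx}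
              zero_mem' := ⟨1, one_mem _, one_mem _, by symm; exact Additive.toMul.injective (Subtype.ext (map_one π))⟩
              add_mem' := fun {v w} ⟨a, ha, haZ, hv⟩ ⟨c, hc', hcZ, hw⟩ => ⟨a * c, mul_mem ha hc', mul_mem haZ hcZ, by
                subst hv hw; exact Additive.toMul.injective (Subtype.ext (map_mul π a c).symm)⟩
              neg_mem' := fun {v} ⟨a, ha, haZ, hv⟩ => ⟨a⁻¹, inv_mem ha, inv_mem haZ, by
                subst hv; exact Additive.toMul.injective (Subtype.ext (map_inv π a).symm)⟩ },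
      ?_, ⟨b, hb', ⟨hb', Subgroup.mem_centralizer_iff.mpr fun y hy => by rw [Set.mem_singleton_iff.mp hy]⟩, rfl⟩, ?_⟩
    · refine Eq.trans (Nat.card_congr ?_ : _ = Nat.card (U0.map π)) ?_
      · exact
          { toFun := fun w => ⟨((Additive.toMul w.1 : M) : H ⧸ S.A), by
              obtain ⟨x, hx, hxU, he'⟩ := w.2
              exact ⟨x, hxU, (congrArg (fun z : Additive M => ((Additive.toMul z : M) : H ⧸ S.A)) he').symm⟩⟩
            invFun := fun q => ⟨Additive.ofMul ⟨q.1, by
                obtain ⟨x, hx, he'⟩ := q.2; exact ⟨x, hU0B hx, he'⟩⟩, by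
                obtain ⟨x, hx, he'⟩ := q.2
                exact ⟨x, hU0B hx, hx, Additive.toMul.injective (Subtype.ext he'.symm)⟩⟩
            left_inv := fun _ => rfl
            right_inv := fun _ => rfl }
      · rw [← Subgroup.relIndex_bot_left, ← Subgroup.map_bot π, Subgroup.relIndex_map_map, QuotientGroup.ker_mk', bot_sup_eq,
          sup_eq_left.mpr hAU, hU0]
    · rintro ⟨_, g, rfl⟩ hgf _ ⟨x, hx, hxU, rfl⟩
      have hgf' : g • mk b hb' = mk b hb' := hgf
      refine ⟨g * x * g⁻¹, S.B_normal.conj_mem x hx g,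
        ⟨S.B_normal.conj_mem x hx g, Subgroup.mem_centralizer_iff.mpr fun y hy => ?_⟩, smul_mk g x hx⟩
      rw [Set.mem_singleton_iff.mp hy]
      have hgf' := hπ.mp ((mk_eq (S.B_normal.conj_mem b hb' g) hb').mp ((smul_mk g b hb').symm.trans hgf'))
      have hxb : b * x = x * b := Subgroup.mem_centralizer_iff.mp hxU.2 b rfl
      have ha := S.A_central hgf' (S.B_le_C (S.B_normal.conj_mem x hx g))
      calc b * (g * x * g⁻¹)
          = (g * b * g⁻¹) * (((g * b * g⁻¹)⁻¹ * b) * (g * x * g⁻¹)) := by group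
        _ = (g * b * g⁻¹) * ((g * x * g⁻¹) * ((g * b * g⁻¹)⁻¹ * b)) := by rw [ha]
        _ = g * (b * x) * g⁻¹ * ((g * b * g⁻¹)⁻¹ * b) := by group
        _ = g * (x * b) * g⁻¹ * ((g * b * g⁻¹)⁻¹ * b) := by rw [hxb]
        _ = g * x * g⁻¹ * b := by group
  -- general bound from a pair
  have hlb : layerBound e = (e ^ 2) * (e ^ 2) := by
    unfold layerBound; rw [if_neg h3, if_neg h5, if_neg h7, if_neg h9]; ring
  rw [hlb]
  have hsR : Group.IsSolvable R := by
    have := S.solv
    exact Group.isSolvable_of_surjective φ.rangeRestrict_surjective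
  obtain ⟨v, w, hvw⟩ := hb R (Additive M) hRodd hsR hRcr (by
    rw [hcardW, card_V (K := K) (V := V)]
    refine (S.relIndex_le_finrank_sq hC).trans_lt ?_
    have h4 : 4 ≤ Nat.card K := by
      obtain ⟨r, hr, hrd⟩ := Nat.exists_prime_and_dvd hw1
      have hr2 : r ≠ 2 := fun h => by
        have := (hwodd.of_dvd_nat hrd); rw [h] at this; simp [Nat.odd_iff] at this
      have := hr.two_le
      have := two_le_card (K := K)
      have := Nat.le_of_dvd (by omega) (S.prime_dvd_sub_one hC hr hrd)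
      omega
    calc Module.finrank K V ^ 2 < (2 ^ Module.finrank K V) ^ 2 :=
          Nat.pow_lt_pow_left Nat.lt_two_pow_self (by norm_num)
      _ = 4 ^ Module.finrank K V := by rw [← pow_mul, mul_comm, pow_mul]; norm_num
      _ ≤ _ := Nat.pow_le_pow_left h4 _)
  calc Nat.card R ≤ Nat.card (Additive M × Additive M) := by
        refine Nat.card_le_card_of_injective (fun h : R => (h • v, h • w)) fun g h hgh => ?_
        have h1 : (h⁻¹ * g) • v = v := by
          rw [mul_smul, show g • v = h • v from congrArg Prod.fst hgh, inv_smul_smul]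
        have h2 : (h⁻¹ * g) • w = w := by
          rw [mul_smul, show g • w = h • w from congrArg Prod.snd hgh, inv_smul_smul]
        have h3 : h⁻¹ * g = 1 := FaithfulSMul.eq_of_smul_eq_smul fun x : Additive M =>
          (hvw _ h1 h2 x).trans (one_smul R x).symm
        exact (inv_mul_eq_one.mp h3).symm
    _ = e ^ 2 * e ^ 2 := by rw [Nat.card_prod, hcardW, he]

end Setup

end CfsgLib.BaseTwo
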