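import Cfsg.Agent.Lib.BaseTwo.LayerAction
/-
The quasiprimitive case: counting shows that some pair of vectors has trivial stabiliser.
-/
set_option autoImplicit false
set_option linter.unusedSectionVars false

universe u

open scoped commutatorElement

namespace CfsgLib.BaseTwo

variable {K V H : Type u} [Field K] [Finite K] [AddCommGroup V] [Finite V] [Nontrivial V]
  [Module K V] [Group H] [Finite H] [DistribMulAction H V] [FaithfulSMul H V]

namespace Setup

variable (S : Setup K V H)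

theorem exists_exponent {h : H} (hh : h ∈ S.C) :
    ∃ d, Nat.card {v : V // h • v = v} = Nat.card K ^ d := by
  obtain ⟨d, hd, -⟩ := S.card_fixed_linear hh
  exact ⟨d, hd⟩

theorem three_exp_le {h : H} (hh : h ∈ S.C) (hhB : h ∈ S.B) (hC : S.C ≠ S.A) (hA : h ∉ S.A) :
    Nat.card {v : V // h • v = v} ^ 3 ≤ Nat.card V := by
  obtain ⟨y, hy, hne⟩ := S.exists_pairing_ne hC hhB hA
  have hc := S.B_comm h hhB y hy
  let ζ := S.χ' ⁅h, y⁆
  have hζ : ζ ≠ 1 := fun e => hne (S.χ'_eq_one hc e)
  have hζ2 : ζ * ζ ≠ 1 := by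
    intro e
    have h2 : ⁅h, y⁆ * ⁅h, y⁆ = 1 := S.χ'_eq_one (mul_mem hc hc) (by rw [S.χ'_mul hc hc]; exact e)
    apply hne
    obtain ⟨m, hm⟩ := S.odd.of_dvd_nat (orderOf_dvd_natCard ⁅h, y⁆)
    have := pow_orderOf_eq_one ⁅h, y⁆
    rwa [hm, pow_succ, pow_mul, pow_two, h2, one_pow, one_mul] at this
  exact card_eigen_three (S.lin ⟨h, hh⟩) (S.lin ⟨y, S.B_le_C hy⟩)
    (fun a b e => MulAction.injective y e) ζ hζ hζ2 (S.χ'_ne hc) fun v => by
      show h • y • v = S.χ' ⁅h, y⁆ • (y • h • v)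
      rw [← S.χ'_spec hc, ← mul_smul y, ← mul_smul, ← mul_smul]
      congr 1
      simp [commutatorElement_def, mul_assoc]

theorem three_exp_le_two {h : H} (hh : h ∈ S.C) (hC : S.C ≠ S.A) (hhB : h ∉ S.B) :
    Nat.card {v : V // h • v = v} ^ 3 ≤ Nat.card V ^ 2 := by
  classical
  obtain ⟨b, hb, hbne⟩ : ∃ b ∈ S.B, ⁅h, b⁆ ∉ S.A := by
    by_contra hall
    push Not at hall
    exact hhB (S.mem_B_of_comm hC hh hall)
  have hfB : ⁅h, b⁆ ∈ S.B := by
    rw [commutatorElement_def]
    exact mul_mem (S.B_normal.conj_mem b hb h) (inv_mem hb)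
  have h3 := S.three_exp_le (S.B_le_C hfB) hfB hC hbne
  let F : AddSubgroup V :=
    { carrier := {v | h • v = v}
      zero_mem' := smul_zero h
      add_mem' := fun {a c} (ha : h • a = a) (hc : h • c = c) => by
        show h • (a + c) = a + c
        rw [smul_add, ha, hc]
      neg_mem' := fun {a} (ha : h • a = a) => by show h • -a = -a; rw [smul_neg, ha] }
  let G : AddSubgroup V :=
    { carrier := {v | ⁅h, b⁆ • v = v}
      zero_mem' := smul_zero _
      add_mem' := fun {a c} (ha : ⁅h, b⁆ • a = a) (hc : ⁅h, b⁆ • c = c) => by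
        show ⁅h, b⁆ • (a + c) = a + c
        rw [smul_add, ha, hc]
      neg_mem' := fun {a} (ha : ⁅h, b⁆ • a = a) => by show ⁅h, b⁆ • -a = -a; rw [smul_neg, ha] }
  let F' : AddSubgroup V := F.map (DistribSMul.toAddMonoidHom V b)
  have hle : F ⊓ F' ≤ G := by
    rintro x ⟨hx, y, hy, rfl⟩
    have hx' : h • b • y = b • y := hx
    have hy' : h • y = y := hy
    show ⁅h, b⁆ • b • y = b • y
    calc ⁅h, b⁆ • b • y = (⁅h, b⁆ * b) • y := (mul_smul _ _ _).symm
      _ = (h * b * h⁻¹) • y := by congr 1; simp [commutatorElement_def]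
      _ = b • y := by rw [mul_smul, mul_smul, inv_smul_eq_iff.mpr hy'.symm, hx']
  have hF' : Nat.card F' = Nat.card F :=
    AddSubgroup.card_map_of_injective (MulAction.injective b)
  have hprod : Nat.card F * Nat.card F ≤ Nat.card V * Nat.card G := by
    calc Nat.card F * Nat.card F = Nat.card (F × F') := by rw [Nat.card_prod, hF']
      _ ≤ Nat.card (V × G) := by
          let rep : V → F × F' := fun v => if hv : ∃ p : F × F', (p.1 : V) + p.2 = v then hv.choose else 0
          have hrep : ∀ p : F × F', ((rep ((p.1 : V) + p.2)).1 : V) + (rep ((p.1 : V) + p.2)).2 = (p.1 : V) + p.2 := by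
            intro p
            have hv : ∃ q : F × F', (q.1 : V) + q.2 = (p.1 : V) + p.2 := ⟨p, rfl⟩
            simp only [rep, dif_pos hv]
            exact hv.choose_spec
          refine Nat.card_le_card_of_injective (fun p : F × F' =>
            (((p.1 : V) + p.2, ⟨(p.1 : V) - (rep ((p.1 : V) + p.2)).1, hle ⟨F.sub_mem p.1.2 (rep _).1.2, ?_⟩⟩) : V × G)) ?_
          · have e : (p.1 : V) - (rep ((p.1 : V) + p.2)).1 = ((rep ((p.1 : V) + p.2)).2 : V) - p.2 := by
              rw [sub_eq_sub_iff_add_eq_add]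
              rw [add_comm ((rep ((p.1 : V) + p.2)).2 : V), hrep]
            rw [e]
            exact F'.sub_mem (rep _).2.2 p.2.2
          · intro p q hpq
            have h1 : (p.1 : V) + p.2 = (q.1 : V) + q.2 := congrArg Prod.fst hpq
            have h2 : (p.1 : V) - (rep ((p.1 : V) + p.2)).1 = (q.1 : V) - (rep ((q.1 : V) + q.2)).1 :=
              congrArg (fun z : V × G => (z.2 : V)) hpq
            rw [h1] at h2
            have h3 : (p.1 : V) = q.1 := sub_left_injective h2
            refine Prod.ext (Subtype.ext h3) (Subtype.ext ?_)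
            rw [h3] at h1
            exact add_left_cancel h1
      _ = _ := Nat.card_prod _ _
  change Nat.card F ^ 3 ≤ _
  have hG : Nat.card G ^ 3 ≤ Nat.card V := h3
  refine (Nat.pow_le_pow_iff_left (by norm_num : 2 ≠ 0)).mp ?_
  calc (Nat.card F ^ 3) ^ 2 = (Nat.card F * Nat.card F) ^ 3 := by ring
    _ ≤ (Nat.card V * Nat.card G) ^ 3 := Nat.pow_le_pow_left hprod 3
    _ = Nat.card V ^ 3 * Nat.card G ^ 3 := by rw [mul_pow]
    _ ≤ Nat.card V ^ 3 * Nat.card V := Nat.mul_le_mul_left _ hG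
    _ = (Nat.card V ^ 2) ^ 2 := by ring

/-- in each coset of `A` only boundedly many elements fix a nonzero vector -/
theorem card_coset_fix_le (q : H ⧸ S.A) [Fintype H] [DecidableEq (H ⧸ S.A)]
    [DecidablePred fun h : H => h ∈ S.C ∧ ∃ v : V, v ≠ 0 ∧ h • v = v] :
    ((Finset.univ.filter fun h : H => h ∈ S.C ∧ ∃ v : V, v ≠ 0 ∧ h • v = v).filter
      fun h : H => (QuotientGroup.mk h : H ⧸ S.A) = q).card ≤ Module.finrank K V := by
  classical
  set s := (Finset.univ.filter fun h : H => h ∈ S.C ∧ ∃ v : V, v ≠ 0 ∧ h • v = v).filter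
      fun h : H => (QuotientGroup.mk h : H ⧸ S.A) = q with hs
  by_cases hne : s.Nonempty
  swap
  · simp [Finset.not_nonempty_iff_eq_empty.mp hne]
  obtain ⟨h0, hh0⟩ := hne
  simp only [hs, Finset.mem_filter, Finset.mem_univ, true_and] at hh0
  have hprop : ∀ h : s, h.1⁻¹ * h0 ∈ S.A ∧ h.1 ∈ S.C ∧ ∃ v : V, v ≠ 0 ∧ h.1 • v = v := by
    rintro ⟨h, hmem⟩
    simp only [hs, Finset.mem_filter, Finset.mem_univ, true_and] at hmem
    exact ⟨QuotientGroup.eq.mp (hmem.2.trans hh0.2.symm), hmem.1.1, hmem.1.2⟩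
  choose ha hhC v hv0 hv using hprop
  let μ : s → K := fun h => S.χ' (h.1⁻¹ * h0)
  have hμ : Function.Injective μ := by
    intro a b e
    have e' : S.χ' (a.1⁻¹ * h0) = S.χ' (b.1⁻¹ * h0) := e
    rw [Setup.χ', Setup.χ', dif_pos (ha a), dif_pos (ha b)] at e'
    have := congrArg Subtype.val (S.χ_inj e')
    exact Subtype.ext (inv_injective (mul_right_cancel this))
  have heig : ∀ h : s, Module.End.HasEigenvector (S.lin ⟨h0, hh0.1.1⟩ : Module.End K V) (μ h) (v h) := by
    intro h
    refine ⟨Module.End.mem_eigenspace_iff.mpr ?_, hv0 h⟩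
    show h0 • v h = S.χ' (h.1⁻¹ * h0) • v h
    rw [← S.χ'_spec (ha h)]
    calc h0 • v h = h0 • h.1⁻¹ • v h := by rw [inv_smul_eq_iff.mpr (hv h).symm]
      _ = (h0 * h.1⁻¹) • v h := (mul_smul _ _ _).symm
      _ = _ := by
        congr 1
        calc h0 * h.1⁻¹ = h.1 * (h.1⁻¹ * h0) * h.1⁻¹ := by group
          _ = (h.1⁻¹ * h0) * h.1 * h.1⁻¹ := by rw [S.A_central (ha h) (hhC h)]
          _ = h.1⁻¹ * h0 := by group
  have := (Module.End.eigenvectors_linearIndependent' (S.lin ⟨h0, hh0.1.1⟩ : Module.End K V) μ hμ v heig).fintype_card_le_finrank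
  rwa [Fintype.card_coe] at this

theorem pair_of_C_ne (hb : Below.{u} (Nat.card V)) (hC : S.C ≠ S.A) :
    ∃ v w : V, ∀ h : H, h • v = v → h • w = w → ∀ x : V, h • x = x := by
  classical
  have : Fintype H := Fintype.ofFinite H
  have : Fintype (H ⧸ S.A) := Fintype.ofFinite _
  obtain ⟨e, hw, heo, he3, hen, hc⟩ := S.layer_bound hb hC
  have hr : ∀ r : ℕ, r.Prime → r ∣ e → r ∣ Nat.card K - 1 := fun r hr hre =>
    S.prime_dvd_sub_one hC hr (hw ▸ dvd_pow hre two_ne_zero)
  have hQ4 : 4 ≤ Nat.card K := by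
    obtain ⟨r, hr', hre⟩ := Nat.exists_prime_and_dvd (show e ≠ 1 by omega)
    have hr2 : r ≠ 2 := fun h => by
      have := heo.of_dvd_nat hre; rw [h] at this; simp [Nat.odd_iff] at this
    have := hr'.two_le
    have := two_le_card (K := K)
    have := Nat.le_of_dvd (by omega) (hr r hr' hre)
    omega
  set Q := Nat.card K with hQdef
  set c := S.B.relIndex S.C with hcdef
  set n := Module.finrank K V with hndef
  have hVQ : Nat.card V = Q ^ n := card_V
  have hQpos : 0 < Q := by omega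
  have hC_card : Nat.card S.C = Nat.card S.A * (e ^ 2 * c) := by
    have h1 := Subgroup.relIndex_mul_relIndex S.A S.B S.C (S.A_le_B hC) S.B_le_C
    have h2 : Nat.card S.C = Nat.card S.A * S.A.relIndex S.C := by
      rw [← Subgroup.card_mul_index (S.A.subgroupOf S.C)]
      congr 1
      exact Nat.card_congr (Subgroup.subgroupOfEquivOfLe S.A_le_C).toEquiv
    rw [h2, ← h1, hw]
  -- the elements of the centraliser outside `A` fixing a nonzero vector
  let T : Finset H := Finset.univ.filter fun h : H => h ∈ S.C ∧ ∃ v : V, v ≠ 0 ∧ h • v = v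
  let T' : Finset H := T.erase 1
  have hTcard : T'.card ≤ n * (e ^ 2 * c) := by
    refine (Finset.card_le_card (Finset.erase_subset 1 T)).trans ?_
    have h1 := Finset.card_le_mul_card_image (f := fun h : H => (QuotientGroup.mk h : H ⧸ S.A)) T n
      (fun q _ => S.card_coset_fix_le q)
    refine h1.trans (Nat.mul_le_mul_left _ ?_)
    have h2 : (T.image fun h : H => (QuotientGroup.mk h : H ⧸ S.A)).card ≤ S.A.relIndex S.C := by
      rw [← Nat.card_eq_finsetCard]
      show _ ≤ Nat.card (S.C ⧸ S.A.subgroupOf S.C)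
      refine Nat.card_le_card_of_surjective (fun q : S.C ⧸ S.A.subgroupOf S.C =>
        if hm : (QuotientGroup.mk (Quotient.out q : S.C).1 : H ⧸ S.A) ∈
            T.image (fun h : H => (QuotientGroup.mk h : H ⧸ S.A)) then ⟨_, hm⟩
        else ⟨QuotientGroup.mk (1 : H), Finset.mem_image.mpr ⟨1, Finset.mem_filter.mpr ⟨Finset.mem_univ _,
          one_mem _, by obtain ⟨v, hv⟩ := exists_ne (0 : V); exact ⟨v, hv, one_smul _ _⟩⟩, rfl⟩⟩) ?_
      rintro ⟨q, hq⟩
      obtain ⟨h, hh, rfl⟩ := Finset.mem_image.mp hq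
      have hhC : h ∈ S.C := (Finset.mem_filter.mp hh).2.1
      refine ⟨QuotientGroup.mk ⟨h, hhC⟩, ?_⟩
      obtain ⟨k, hk⟩ := QuotientGroup.mk_out_eq_mul (S.A.subgroupOf S.C) (⟨h, hhC⟩ : S.C)
      have he' : (QuotientGroup.mk (Quotient.out (QuotientGroup.mk (⟨h, hhC⟩ : S.C) : S.C ⧸ S.A.subgroupOf S.C)).1 : H ⧸ S.A) =
          QuotientGroup.mk h := by
        rw [hk, Subgroup.coe_mul]
        exact QuotientGroup.mk_mul_of_mem h (Subgroup.mem_subgroupOf.mp k.2)
      dsimp only
      rw [dif_pos (he' ▸ hq)]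
      exact Subtype.ext he'
    rwa [← Subgroup.relIndex_mul_relIndex S.A S.B S.C (S.A_le_B hC) S.B_le_C, hw] at h2
  obtain ⟨E, hE⟩ : ∃ E, E = (if c = 1 then 2 * (n / 3) else 2 * (2 * n / 3)) := ⟨_, rfl⟩
  have hTw : ∀ h ∈ T', pairWeight V h ≤ Q ^ E := by
    intro h hh
    obtain ⟨hh1, hhT⟩ := Finset.mem_erase.mp hh
    obtain ⟨-, hhC, v, hv0, hv⟩ := Finset.mem_filter.mp hhT
    have hA : h ∉ S.A := fun hA => hv0 (S.A_fix_trivial hA hh1 hv)
    obtain ⟨d, hd⟩ := S.exists_exponent hhC
    rw [pairWeight, hd, ← pow_mul]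
    refine Nat.pow_le_pow_right hQpos ?_
    by_cases hB : h ∈ S.B
    · have h3 := S.three_exp_le hhC hB hC hA
      rw [hd, hVQ, ← pow_mul] at h3
      have := (Nat.pow_le_pow_iff_right (by omega : 1 < Q)).mp h3
      rw [hE]; split_ifs <;> omega
    · have h3 := S.three_exp_le_two hhC hC hB
      rw [hd, hVQ, ← pow_mul, ← pow_mul] at h3
      have := (Nat.pow_le_pow_iff_right (by omega : 1 < Q)).mp h3
      have hc1 : c ≠ 1 := fun h1 => hB (Subgroup.relIndex_eq_one.mp h1 hhC)
      rw [hE, if_neg hc1]; omega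
  have hmid : T'.card * Q ^ E ≤ Q ^ (2 * n) := by
    refine (Nat.mul_le_mul_right _ hTcard).trans ?_
    rw [show 2 * n = (2 * n - E) + E by rw [hE]; split_ifs <;> omega, pow_add]
    refine Nat.mul_le_mul_right _ ?_
    by_cases hc1 : c = 1
    · rw [hE, if_pos hc1, hc1, mul_one]
      calc n * e ^ 2 ≤ n * n ^ 2 := Nat.mul_le_mul_left _ (Nat.pow_le_pow_left hen 2)
        _ ≤ 4 ^ n := by
            clear_value n
            clear * -
            induction n with
            | zero => simp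
            | succ k ih =>
              rcases Nat.lt_or_ge k 3 with h | h
              · interval_cases k <;> norm_num
              · calc (k + 1) * (k + 1) ^ 2 ≤ 4 * (k * k ^ 2) := by nlinarith [Nat.mul_le_mul h h]
                  _ ≤ 4 * 4 ^ k := Nat.mul_le_mul_left _ ih
                  _ = _ := by ring
        _ ≤ Q ^ n := Nat.pow_le_pow_left hQ4 n
        _ ≤ _ := Nat.pow_le_pow_right hQpos (by omega)
    · rw [hE, if_neg hc1, show 2 * n - 2 * (2 * n / 3) = 2 * ((n + 2) / 3) by omega, ← mul_assoc]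
      have hc0 : c ≠ 0 := Subgroup.index_ne_zero_of_finite
      exact arith_middle e n c Q heo he3 hen hc (by omega) hQ4 hr
  -- weights
  obtain ⟨D, hD⟩ : ∃ D, D = (2 * n + 2) / 3 := ⟨_, rfl⟩
  have hout : ∀ h : H, h ∉ S.C → pairWeight V h ≤ Q ^ D := by
    intro h hh
    refine (Nat.pow_le_pow_iff_left (by norm_num : 3 ≠ 0)).mp ?_
    rw [pairWeight, ← pow_mul, ← pow_mul]
    calc Nat.card {v : V // h • v = v} ^ (2 * 3)
        = (Nat.card {v : V // h • v = v} ^ 3) ^ 2 := by rw [← pow_mul]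
      _ ≤ Nat.card V ^ 2 := Nat.pow_le_pow_left (S.weight_outside h hh) 2
      _ = Q ^ (2 * n) := by rw [hVQ, ← pow_mul, mul_comm n]
      _ ≤ _ := Nat.pow_le_pow_right hQpos (by omega)
  have hone : ∀ h : H, h ∈ S.C → h ∉ T → pairWeight V h ≤ 1 := by
    intro h hh hT
    have : Subsingleton {v : V // h • v = v} := by
      refine ⟨fun a b => Subtype.ext ?_⟩
      have z : ∀ x : {v : V // h • v = v}, x.1 = 0 := fun x => by
        by_contra hx
        exact hT (Finset.mem_filter.mpr ⟨Finset.mem_univ _, hh, x.1, hx, x.2⟩)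
      rw [z a, z b]
    rw [pairWeight]
    exact Nat.pow_le_one_iff (by norm_num) |>.mpr (Finite.card_le_one_iff_subsingleton.mpr this)
  refine pair_of_count S.odd ?_
  rw [← Finset.sum_filter_add_sum_filter_not (Finset.univ.erase (1 : H)) (fun h => h ∈ T'),
    hVQ, ← pow_add, ← two_mul n]
  have hA1 : ∑ g ∈ (Finset.univ.erase (1 : H)).filter (fun h => h ∈ T'), pairWeight V g ≤ Q ^ (2 * n) := by
    refine le_trans (Finset.sum_le_card_nsmul _ _ (Q ^ E) fun g hg => hTw g (Finset.mem_filter.mp hg).2) ?_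
    rw [smul_eq_mul]
    refine le_trans (Nat.mul_le_mul_right _ (Finset.card_le_card fun g hg => (Finset.mem_filter.mp hg).2)) hmid
  have hA2 : ∑ g ∈ (Finset.univ.erase (1 : H)).filter (fun h => ¬ h ∈ T'), pairWeight V g < Q ^ (2 * n) := by
    have hAlt : Nat.card S.A < Q := S.card_A_lt
    have he2c : e ^ 2 * c ≤ n ^ 6 := by
      calc e ^ 2 * c ≤ n ^ 2 * n ^ 4 := Nat.mul_le_mul (Nat.pow_le_pow_left hen 2)
            (hc.trans ((layerBound_le e he3).trans (Nat.pow_le_pow_left hen 4)))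
        _ = n ^ 6 := by ring
    have hpos : 0 < e ^ 2 * c := Nat.mul_pos (by positivity) (Nat.pos_of_ne_zero Subgroup.index_ne_zero_of_finite)
    by_cases hCtop : S.C = ⊤
    · refine lt_of_le_of_lt (Finset.sum_le_card_nsmul _ _ 1 fun g hg => ?_) ?_
      · obtain ⟨hg1, hg2⟩ := Finset.mem_filter.mp hg
        refine hone g (hCtop ▸ Subgroup.mem_top g) fun hT => hg2 ?_
        exact Finset.mem_erase.mpr ⟨(Finset.mem_erase.mp hg1).1, hT⟩
      · rw [smul_eq_mul, mul_one]
        refine lt_of_le_of_lt (Finset.card_le_univ _) ?_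
        rw [← Nat.card_eq_fintype_card, ← Subgroup.card_top (G := H), ← hCtop, hC_card]
        calc Nat.card S.A * (e ^ 2 * c) < Q * (e ^ 2 * c) := Nat.mul_lt_mul_of_pos_right hAlt hpos
          _ ≤ Q * n ^ 6 := Nat.mul_le_mul_left _ he2c
          _ ≤ Q * 4 ^ (2 * n - 1) := by
              refine Nat.mul_le_mul_left _ ?_
              have h3n : 3 ≤ n := by omega
              clear_value n
              clear * - h3n
              induction n, h3n using Nat.le_induction with
              | base => norm_num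
              | succ k hk ih =>
                rw [show 2 * (k + 1) - 1 = 2 * k - 1 + 2 by omega, pow_add]
                have : (k + 1) ^ 6 ≤ 16 * k ^ 6 := by
                  refine Nat.le_of_mul_le_mul_left ?_ (by norm_num : 0 < 3 ^ 6)
                  calc 3 ^ 6 * (k + 1) ^ 6 = (3 * (k + 1)) ^ 6 := by ring
                    _ ≤ (4 * k) ^ 6 := Nat.pow_le_pow_left (by omega) 6
                    _ ≤ _ := by ring_nf; omega
                calc (k + 1) ^ 6 ≤ 16 * k ^ 6 := this
                  _ ≤ 16 * 4 ^ (2 * k - 1) := Nat.mul_le_mul_left _ ih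
                  _ = _ := by ring
          _ ≤ Q * Q ^ (2 * n - 1) := Nat.mul_le_mul_left _ (Nat.pow_le_pow_left hQ4 _)
          _ = Q ^ (2 * n) := by rw [← pow_succ']; congr 1; omega
    · obtain ⟨h, -, hh⟩ := SetLike.exists_of_lt (lt_top_iff_ne_top.mpr hCtop)
      have hQ8 : 8 ≤ Q := S.card_ge_eight h hh
      refine lt_of_le_of_lt (Finset.sum_le_card_nsmul _ _ (Q ^ D) fun g hg => ?_) ?_
      · obtain ⟨hg1, hg2⟩ := Finset.mem_filter.mp hg
        by_cases hgC : g ∈ S.C
        · refine (hone g hgC fun hT => hg2 ?_).trans (Nat.one_le_pow _ _ hQpos)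
          exact Finset.mem_erase.mpr ⟨(Finset.mem_erase.mp hg1).1, hT⟩
        · exact hout g hgC
      · rw [smul_eq_mul]
        refine lt_of_le_of_lt (Nat.mul_le_mul_right _ (Finset.card_le_univ _)) ?_
        rw [← Nat.card_eq_fintype_card, ← Subgroup.card_mul_index S.C, hC_card]
        have hidx := S.index_C_le
        have hao := arith_outer e n c Q heo he3 hen hc hQ8
        calc Nat.card S.A * (e ^ 2 * c) * S.C.index * Q ^ D
            ≤ Q * (e ^ 2 * c) * Q * Q ^ D :=
              Nat.mul_le_mul_right _ (Nat.mul_le_mul (Nat.mul_le_mul_right _ hAlt.le) hidx)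
          _ = Q ^ 2 * Q ^ D * (e ^ 2 * c) := by ring
          _ < Q ^ 2 * Q ^ D * Q ^ (2 * n - 2 - D) := by
              refine Nat.mul_lt_mul_of_pos_left ?_ (by positivity)
              rw [hD]; omega
          _ = Q ^ (2 * n) := by rw [← pow_add, ← pow_add]; congr 1; omega
  omega

include S in
theorem pair_of_setup (hb : Below.{u} (Nat.card V)) :
    ∃ v w : V, ∀ h : H, h • v = v → h • w = w → ∀ x : V, h • x = x := by
  by_cases hC : S.C = S.A
  · exact S.pair_of_C_eq hC
  · exact S.pair_of_C_ne hb hC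

end Setup

end CfsgLib.BaseTwo
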