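import Cfsg.Agent.Lib.BaseTwo.Basic
/-
Fixed point bounds, characters of commutator pairings and the arithmetic needed for quasiprimitive
groups of odd order.
-/
set_option autoImplicit false

namespace CfsgLib.BaseTwo

/-- a three by three Vandermonde elimination -/
theorem vandermonde_three {K V : Type*} [Field K] [AddCommGroup V] [Module K V]
    {a b c : K} (hab : a ≠ b) (hac : a ≠ c) (hbc : b ≠ c) {x y z : V}
    (h0 : x + a • y + (a * a) • z = 0) (h1 : x + b • y + (b * b) • z = 0)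
    (h2 : x + c • y + (c * c) • z = 0) : x = 0 ∧ y = 0 ∧ z = 0 := by
  have e1 : (b - a) • (y + (a + b) • z) = 0 := by
    have : (b - a) • (y + (a + b) • z) =
        (x + b • y + (b * b) • z) - (x + a • y + (a * a) • z) := by
      rw [show b * b = a * a + (b - a) * (a + b) by ring]; module
    rw [this, h0, h1, sub_zero]
  have e2 : (c - b) • (y + (b + c) • z) = 0 := by
    have : (c - b) • (y + (b + c) • z) =
        (x + c • y + (c * c) • z) - (x + b • y + (b * b) • z) := by
      rw [show c * c = b * b + (c - b) * (b + c) by ring]; module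
    rw [this, h1, h2, sub_zero]
  rcases smul_eq_zero.mp e1 with h | e1
  · exact absurd (sub_eq_zero.mp h).symm hab
  rcases smul_eq_zero.mp e2 with h | e2
  · exact absurd (sub_eq_zero.mp h).symm hbc
  have hz : z = 0 := by
    have : (c - a) • z = 0 := by
      have : (c - a) • z = (y + (b + c) • z) - (y + (a + b) • z) := by module
      rw [this, e1, e2, sub_zero]
    rcases smul_eq_zero.mp this with h | h
    · exact absurd (sub_eq_zero.mp h).symm hac
    · exact h
  rw [hz, smul_zero, add_zero] at e1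
  rw [e1, hz, smul_zero, smul_zero, add_zero, add_zero] at h0
  exact ⟨h0, e1, hz⟩

/-- fixed points of a semilinear map whose field automorphism moves a point -/
theorem card_fixed_semilinear {K V : Type*} [Field K] [AddCommGroup V] [Module K V] [Finite V]
    (s : V →+ V) (σ : K → K) (hs : ∀ (c : K) (v : V), s (c • v) = σ c • s v)
    (hmul : ∀ a b : K, σ (a * b) = σ a * σ b)
    (t : K) (h1 : σ t ≠ t) (h2 : σ (σ t) ≠ t) (h3 : σ (σ t) ≠ σ t) :
    Nat.card {v : V // s v = v} ^ 3 ≤ Nat.card V := by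
  let F := {v : V // s v = v}
  let f : F × F × F → V := fun x => x.1.1 + t • x.2.1.1 + (t * t) • x.2.2.1
  have hf : Function.Injective f := by
    rintro ⟨⟨x, hx⟩, ⟨y, hy⟩, ⟨z, hz⟩⟩ ⟨⟨x', hx'⟩, ⟨y', hy'⟩, ⟨z', hz'⟩⟩ h
    have step : ∀ a : K, x + a • y + (a * a) • z = x' + a • y' + (a * a) • z' →
        x + σ a • y + (σ a * σ a) • z = x' + σ a • y' + (σ a * σ a) • z' := by
      intro a ha
      have := congrArg s ha
      simp only [map_add, hs, hmul, hx, hy, hz, hx', hy', hz'] at this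
      exact this
    have d : ∀ a : K, x + a • y + (a * a) • z = x' + a • y' + (a * a) • z' →
        (x - x') + a • (y - y') + (a * a) • (z - z') = 0 := by
      intro a ha
      have e : (x - x') + a • (y - y') + (a * a) • (z - z') =
          (x + a • y + (a * a) • z) - (x' + a • y' + (a * a) • z') := by module
      rw [e, ha, sub_self]
    have q0 : x + t • y + (t * t) • z = x' + t • y' + (t * t) • z' := h
    obtain ⟨a1, a2, a3⟩ := vandermonde_three (Ne.symm h1) (Ne.symm h2) (Ne.symm h3)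
      (d t q0) (d _ (step t q0)) (d _ (step _ (step t q0)))
    exact Prod.ext (Subtype.ext (sub_eq_zero.mp a1))
      (Prod.ext (Subtype.ext (sub_eq_zero.mp a2)) (Subtype.ext (sub_eq_zero.mp a3)))
  calc Nat.card {v : V // s v = v} ^ 3 = Nat.card (F × F × F) := by
        rw [Nat.card_prod, Nat.card_prod]; ring
    _ ≤ Nat.card V := Nat.card_le_card_of_injective f hf

/-- three translates of a fixed point space in distinct eigenspaces -/
theorem card_eigen_three {K V : Type*} [Field K] [AddCommGroup V] [Module K V] [Finite V]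
    (s m : V →ₗ[K] V) (hm : Function.Injective m) (ζ : K) (hζ : ζ ≠ 1) (hζ2 : ζ * ζ ≠ 1) (hζ0 : ζ ≠ 0)
    (hcomm : ∀ v, s (m v) = ζ • m (s v)) :
    Nat.card {v : V // s v = v} ^ 3 ≤ Nat.card V := by
  let F := {v : V // s v = v}
  let f : F × F × F → V := fun x => x.1.1 + m x.2.1.1 + m (m x.2.2.1)
  have hf : Function.Injective f := by
    rintro ⟨⟨x, hx⟩, ⟨y, hy⟩, ⟨z, hz⟩⟩ ⟨⟨x', hx'⟩, ⟨y', hy'⟩, ⟨z', hz'⟩⟩ h
    set X := x - x' with hX
    set Y := m (y - y') with hY
    set Z := m (m (z - z')) with hZ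
    have sX : s X = X := by rw [hX, map_sub, hx, hx']
    have sY : s Y = ζ • Y := by rw [hY, hcomm, map_sub s, hy, hy']
    have sZ : s Z = (ζ * ζ) • Z := by
      rw [hZ, hcomm, hcomm, map_sub s, hz, hz', map_smul, smul_smul]
    have q0 : X + (1 : K) • Y + ((1 : K) * 1) • Z = 0 := by
      have e : x + m y + m (m z) - (x' + m y' + m (m z')) = 0 := sub_eq_zero.mpr h
      rw [one_mul, one_smul, one_smul, hX, hY, hZ, map_sub, map_sub, map_sub, ← e]
      abel
    have q1 : X + ζ • Y + (ζ * ζ) • Z = 0 := by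
      have := congrArg s q0
      rwa [one_mul, one_smul, one_smul, map_add, map_add, map_zero, sX, sY, sZ] at this
    have q2 : X + (ζ * ζ) • Y + ((ζ * ζ) * (ζ * ζ)) • Z = 0 := by
      have := congrArg s q1
      rwa [map_add, map_add, map_zero, map_smul, map_smul, sX, sY, sZ, smul_smul, smul_smul] at this
    obtain ⟨a1, a2, a3⟩ := vandermonde_three (Ne.symm hζ) (Ne.symm hζ2)
      (fun e => hζ (mul_left_cancel₀ hζ0 (by rw [mul_one]; exact e.symm))) q0 q1 q2
    refine Prod.ext (Subtype.ext (sub_eq_zero.mp a1))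
      (Prod.ext (Subtype.ext (sub_eq_zero.mp ?_)) (Subtype.ext (sub_eq_zero.mp ?_)))
    · exact hm (a2.trans (map_zero m).symm)
    · exact hm (hm (by rw [show m (m (z - z')) = Z from rfl, a3, map_zero, map_zero]))
  calc Nat.card {v : V // s v = v} ^ 3 = Nat.card (F × F × F) := by
        rw [Nat.card_prod, Nat.card_prod]; ring
    _ ≤ Nat.card V := Nat.card_le_card_of_injective f hf

/-- multiplicative maps trivial on a subgroup are no more numerous than its cosets -/
theorem card_characters_le {G K ι : Type*} [Group G] [Finite G] [Field K] (G0 : Subgroup G)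
    (f : ι → (G →* K)) (hf : Function.Injective f) (h0 : ∀ i, ∀ g ∈ G0, f i g = 1) :
    Nat.card ι ≤ G0.index := by
  classical
  have : Fintype (G ⧸ G0) := Fintype.ofFinite _
  have hconst : ∀ i g, f i (Quotient.out (QuotientGroup.mk g : G ⧸ G0)) = f i g := by
    intro i g
    obtain ⟨k, hk⟩ := QuotientGroup.mk_out_eq_mul G0 g
    rw [hk, map_mul, h0 i k k.2, mul_one]
  let L : (G ⧸ G0 → K) →ₗ[K] (G → K) :=
    { toFun := fun φ g => φ (QuotientGroup.mk g), map_add' := fun _ _ => rfl, map_smul' := fun _ _ => rfl }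
  let v : ι → (G ⧸ G0 → K) := fun i c => f i (Quotient.out c)
  have hli : LinearIndependent K v := by
    refine LinearIndependent.of_comp L ?_
    have h1 := (linearIndependent_monoidHom G K).comp f hf
    have e : ⇑L ∘ v = (fun φ : G →* K => (⇑φ : G → K)) ∘ f := by
      funext i g; exact hconst i g
    rw [e]; exact h1
  have : Finite ι := hli.finite
  have : Fintype ι := Fintype.ofFinite ι
  have := hli.fintype_card_le_finrank
  rwa [Module.finrank_fintype_fun_eq_card, ← Nat.card_eq_fintype_card,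
    ← Nat.card_eq_fintype_card] at this

/-- cap on the order of the action on the layer -/
def layerBound (e : ℕ) : ℕ :=
  if e = 3 then 1 else if e = 5 then 3 else if e = 7 then 9 else if e = 9 then 5 else e ^ 4

theorem layerBound_le (e : ℕ) (he : 3 ≤ e) : layerBound e ≤ e ^ 4 := by
  unfold layerBound
  have : 3 ^ 4 ≤ e ^ 4 := Nat.pow_le_pow_left he 4
  split_ifs <;> omega

theorem aux_middle : ∀ n : ℕ, 27 ≤ n → n ^ 21 ≤ 16 ^ n := by
  intro n hn
  induction n, hn using Nat.le_induction with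
  | base => norm_num
  | succ n hn ih =>
    have h1 : 27 ^ 21 * (n + 1) ^ 21 ≤ 28 ^ 21 * n ^ 21 := by
      rw [← mul_pow, ← mul_pow]; exact Nat.pow_le_pow_left (by omega) 21
    have h2 : (28 : ℕ) ^ 21 ≤ 27 ^ 21 * 16 := by norm_num
    have h3 : (n + 1) ^ 21 ≤ 16 * n ^ 21 := by
      refine Nat.le_of_mul_le_mul_left (h1.trans ?_) (by positivity : 0 < 27 ^ 21)
      calc 28 ^ 21 * n ^ 21 ≤ 27 ^ 21 * 16 * n ^ 21 := Nat.mul_le_mul_right _ h2
        _ = _ := by ring
    calc (n + 1) ^ 21 ≤ 16 * n ^ 21 := h3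
      _ ≤ 16 * 16 ^ n := Nat.mul_le_mul_left _ ih
      _ = 16 ^ (n + 1) := by ring

theorem arith_middle (e n c Q : ℕ) (heo : Odd e) (he : 3 ≤ e) (hen : e ≤ n) (hc : c ≤ layerBound e)
    (hc2 : 2 ≤ c) (hQ : 4 ≤ Q) (hr : ∀ r : ℕ, r.Prime → r ∣ e → r ∣ Q - 1) :
    n * e ^ 2 * c ≤ Q ^ (2 * ((n + 2) / 3)) := by
  rcases Nat.lt_or_ge n 27 with hn | hn
  swap
  · have h1 : n * e ^ 2 * c ≤ n ^ 7 := by
      calc n * e ^ 2 * c ≤ n * n ^ 2 * n ^ 4 := by
            refine Nat.mul_le_mul (Nat.mul_le_mul_left _ (Nat.pow_le_pow_left hen 2)) ?_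
            exact hc.trans ((layerBound_le e he).trans (Nat.pow_le_pow_left hen 4))
        _ = n ^ 7 := by ring
    refine h1.trans ((Nat.pow_le_pow_iff_left (by norm_num : 3 ≠ 0)).mp ?_)
    calc (n ^ 7) ^ 3 = n ^ 21 := by ring
      _ ≤ 16 ^ n := aux_middle n hn
      _ ≤ 16 ^ (3 * ((n + 2) / 3)) := Nat.pow_le_pow_right (by norm_num) (by omega)
      _ = (4 ^ (2 * ((n + 2) / 3))) ^ 3 := by
            rw [show (16 : ℕ) = 4 ^ 2 by norm_num, ← pow_mul, ← pow_mul]; ring_nf
      _ ≤ _ := Nat.pow_le_pow_left (Nat.pow_le_pow_left hQ _) 3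
  have hp : ∀ r, r.Prime → r ∣ e → r + 1 ≤ Q := fun r h1 h2 => by
    have := Nat.le_of_dvd (by omega) (hr r h1 h2); omega
  have key : ∀ q, q ≤ Q → ∀ cm, c ≤ cm → n * e ^ 2 * cm ≤ q ^ (2 * ((n + 2) / 3)) →
      n * e ^ 2 * c ≤ Q ^ (2 * ((n + 2) / 3)) := fun q hq cm hcm h =>
    ((Nat.mul_le_mul_left _ hcm).trans h).trans (Nat.pow_le_pow_left hq _)
  have he' : e < 27 := by omega
  have heo' := Nat.odd_iff.mp heo
  interval_cases e <;> first | omega | skip
  all_goals simp only [layerBound] at hc; norm_num at hc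
  · omega
  · refine key 6 (hp 5 (by norm_num) (by norm_num)) 3 hc ?_
    interval_cases n <;> norm_num
  · refine key 8 (hp 7 (by norm_num) (by norm_num)) 9 hc ?_
    interval_cases n <;> norm_num
  · refine key 4 hQ 5 hc ?_
    interval_cases n <;> norm_num
  · refine key 12 (hp 11 (by norm_num) (by norm_num)) _ hc ?_
    interval_cases n <;> norm_num
  · refine key 14 (hp 13 (by norm_num) (by norm_num)) _ hc ?_
    interval_cases n <;> norm_num
  · have h15 : 15 ∣ Q - 1 := Nat.Coprime.mul_dvd_of_dvd_of_dvd (by norm_num : Nat.Coprime 3 5)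
      (hr 3 (by norm_num) (by norm_num)) (hr 5 (by norm_num) (by norm_num))
    refine key 16 (by have := Nat.le_of_dvd (by omega) h15; omega) _ hc ?_
    interval_cases n <;> norm_num
  · refine key 18 (hp 17 (by norm_num) (by norm_num)) _ hc ?_
    interval_cases n <;> norm_num
  · refine key 20 (hp 19 (by norm_num) (by norm_num)) _ hc ?_
    interval_cases n <;> norm_num
  · have h21 : 21 ∣ Q - 1 := Nat.Coprime.mul_dvd_of_dvd_of_dvd (by norm_num : Nat.Coprime 3 7)
      (hr 3 (by norm_num) (by norm_num)) (hr 7 (by norm_num) (by norm_num))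
    refine key 22 (by have := Nat.le_of_dvd (by omega) h21; omega) _ hc ?_
    interval_cases n <;> norm_num
  · refine key 24 (hp 23 (by norm_num) (by norm_num)) _ hc ?_
    interval_cases n <;> norm_num
  · refine key 6 (hp 5 (by norm_num) (by norm_num)) _ hc ?_
    interval_cases n <;> norm_num

theorem aux_outer : ∀ n : ℕ, 8 ≤ n → 8 * n ^ 18 ≤ 2 ^ (12 * n - 24) := by
  intro n hn
  induction n, hn using Nat.le_induction with
  | base => norm_num
  | succ n hn ih =>
    have h1 : 8 ^ 18 * (n + 1) ^ 18 ≤ 9 ^ 18 * n ^ 18 := by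
      rw [← mul_pow, ← mul_pow]; exact Nat.pow_le_pow_left (by omega) 18
    have h2 : (9 : ℕ) ^ 18 ≤ 8 ^ 18 * 4096 := by norm_num
    have h3 : (n + 1) ^ 18 ≤ 4096 * n ^ 18 := by
      refine Nat.le_of_mul_le_mul_left (h1.trans ?_) (by positivity : 0 < 8 ^ 18)
      calc 9 ^ 18 * n ^ 18 ≤ 8 ^ 18 * 4096 * n ^ 18 := Nat.mul_le_mul_right _ h2
        _ = _ := by ring
    rw [show 12 * (n + 1) - 24 = 12 * n - 24 + 12 by omega, pow_add]
    calc 8 * (n + 1) ^ 18 ≤ 4096 * (8 * n ^ 18) := by linarith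
      _ ≤ 4096 * 2 ^ (12 * n - 24) := Nat.mul_le_mul_left _ ih
      _ = _ := by ring

theorem arith_outer (e n c Q : ℕ) (heo : Odd e) (he : 3 ≤ e) (hen : e ≤ n) (hc : c ≤ layerBound e)
    (hQ : 8 ≤ Q) : 2 * (e ^ 2 * c) ≤ Q ^ (2 * n - 2 - (2 * n + 2) / 3) := by
  refine le_trans ?_ (Nat.pow_le_pow_left hQ _)
  have hn6 : 2 * (e ^ 2 * c) ≤ 2 * n ^ 6 := by
    calc 2 * (e ^ 2 * c) ≤ 2 * (n ^ 2 * n ^ 4) := by
          refine Nat.mul_le_mul_left _ (Nat.mul_le_mul (Nat.pow_le_pow_left hen 2) ?_)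
          exact hc.trans ((layerBound_le e he).trans (Nat.pow_le_pow_left hen 4))
      _ = 2 * n ^ 6 := by ring
  rcases Nat.lt_or_ge n 8 with hn | hn
  · have heo' := Nat.odd_iff.mp heo
    have : e < 8 := by omega
    interval_cases n <;> interval_cases e <;> first | omega | skip
    all_goals simp only [layerBound] at hc; norm_num at hc ⊢; omega
  · refine hn6.trans ((Nat.pow_le_pow_iff_left (by norm_num : 3 ≠ 0)).mp ?_)
    calc (2 * n ^ 6) ^ 3 = 8 * n ^ 18 := by ring
      _ ≤ 2 ^ (12 * n - 24) := aux_outer n hn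
      _ ≤ 2 ^ (9 * (2 * n - 2 - (2 * n + 2) / 3)) := Nat.pow_le_pow_right (by norm_num) (by omega)
      _ = _ := by rw [show (8 : ℕ) = 2 ^ 3 by norm_num, ← pow_mul, ← pow_mul]; ring_nf

end CfsgLib.BaseTwo
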