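import Cfsg.Agent.Lib.BaseTwo.Counting
/-
Semilinear groups with a maximal abelian normal subgroup of scalars: the basic facts.
-/
set_option autoImplicit false
set_option linter.unusedSectionVars false

universe u

namespace CfsgLib.BaseTwo

variable (K V H : Type u) [Field K] [Finite K] [AddCommGroup V] [Finite V] [Nontrivial V]
  [Module K V] [Group H] [Finite H] [DistribMulAction H V] [FaithfulSMul H V]

/-- a semilinear group with a maximal abelian normal subgroup of scalars generating the field -/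
structure Setup where
  σ : H → K → K
  smul_comm' : ∀ (h : H) (c : K) (v : V), h • (c • v) = σ h c • h • v
  A : Subgroup H
  normal : A.Normal
  comm : ∀ a ∈ A, ∀ b ∈ A, a * b = b * a
  max : ∀ N : Subgroup H, N.Normal → A ≤ N → (∀ a ∈ N, ∀ b ∈ N, a * b = b * a) → N = A
  scal : ∀ a ∈ A, ∃ c : K, ∀ v : V, a • v = c • v
  gen : ∀ h ∈ Subgroup.centralizer (A : Set H), ∀ c : K, σ h c = c
  odd : Odd (Nat.card H)
  solv : Group.IsSolvable H

variable {K V H}

namespace Setup

variable (S : Setup K V H)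

theorem scal_eq {c d : K} (h : ∀ v : V, c • v = d • v) : c = d := by
  obtain ⟨v, hv⟩ := exists_ne (0 : V)
  exact smul_left_injective K hv (h v)

theorem σ_mul (h : H) (c d : K) : S.σ h (c * d) = S.σ h c * S.σ h d := by
  refine scal_eq (V := V) fun v => ?_
  obtain ⟨w, rfl⟩ := MulAction.surjective h v
  rw [← S.smul_comm', mul_smul, S.smul_comm', S.smul_comm', smul_smul]

theorem σ_comp (g h : H) (c : K) : S.σ (g * h) c = S.σ g (S.σ h c) := by
  refine scal_eq (V := V) fun v => ?_
  obtain ⟨w, rfl⟩ := MulAction.surjective (g * h) v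
  rw [← S.smul_comm', mul_smul, S.smul_comm', S.smul_comm', ← mul_smul g h]

theorem σ_one (c : K) : S.σ 1 c = c := S.gen 1 (one_mem _) c

theorem σ_zero (h : H) : S.σ h 0 = 0 := by
  refine scal_eq (V := V) fun v => ?_
  obtain ⟨w, rfl⟩ := MulAction.surjective h v
  rw [← S.smul_comm', zero_smul, zero_smul, smul_zero]

theorem σ_unit (h : H) : S.σ h 1 = 1 := by
  refine scal_eq (V := V) fun v => ?_
  obtain ⟨w, rfl⟩ := MulAction.surjective h v
  rw [← S.smul_comm', one_smul, one_smul]

theorem σ_pow (h : H) (c : K) (j : ℕ) : S.σ h (c ^ j) = S.σ h c ^ j := by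
  induction j with
  | zero => rw [pow_zero, pow_zero, S.σ_unit]
  | succ j ih => rw [pow_succ, S.σ_mul, ih, pow_succ]

/-- the centraliser of the scalars -/
def C : Subgroup H := Subgroup.centralizer (S.A : Set H)

theorem A_le_C : S.A ≤ S.C := fun a ha =>
  Subgroup.mem_centralizer_iff.mpr fun b hb => S.comm b hb a ha

theorem C_normal : (S.C).Normal := by
  refine ⟨fun c hc g => Subgroup.mem_centralizer_iff.mpr fun a ha => ?_⟩
  have h1 : g⁻¹ * a * g ∈ S.A := by simpa using S.normal.conj_mem a ha g⁻¹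
  have h2 := Subgroup.mem_centralizer_iff.mp hc _ h1
  calc a * (g * c * g⁻¹) = g * ((g⁻¹ * a * g) * c) * g⁻¹ := by group
    _ = g * (c * (g⁻¹ * a * g)) * g⁻¹ := by rw [h2]
    _ = g * c * g⁻¹ * a := by group

theorem mem_C_iff (h : H) : h ∈ S.C ↔ ∀ c : K, S.σ h c = c := by
  refine ⟨S.gen h, fun hσ => Subgroup.mem_centralizer_iff.mpr fun a ha => ?_⟩
  obtain ⟨c, hc⟩ := S.scal a ha
  refine FaithfulSMul.eq_of_smul_eq_smul fun v : V => ?_
  rw [mul_smul, mul_smul, hc, hc, S.smul_comm', hσ]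

theorem C_linear {h : H} (hh : h ∈ S.C) (c : K) (v : V) : h • (c • v) = c • h • v := by
  rw [S.smul_comm', S.gen h hh]

/-- linear map of an element of the centraliser -/
def lin (h : S.C) : V →ₗ[K] V where
  toFun v := h.1 • v
  map_add' := smul_add h.1
  map_smul' c v := S.C_linear h.2 c v

/-- scalar of an element of `A` -/
noncomputable def χ (a : S.A) : K := Classical.choose (S.scal a.1 a.2)

theorem χ_spec (a : S.A) (v : V) : a.1 • v = S.χ a • v := Classical.choose_spec (S.scal a.1 a.2) v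

theorem χ_one : S.χ 1 = 1 := scal_eq (V := V) fun v => by
  rw [← S.χ_spec, one_smul]; exact one_smul H v

theorem χ_mul (a b : S.A) : S.χ (a * b) = S.χ a * S.χ b := scal_eq (V := V) fun v => by
  rw [← S.χ_spec, mul_smul (S.χ a), ← S.χ_spec, ← S.χ_spec, ← mul_smul]; rfl

theorem χ_ne (a : S.A) : S.χ a ≠ 0 := fun h => by
  obtain ⟨v, hv⟩ := exists_ne (0 : V)
  exact hv (MulAction.injective a.1 (by dsimp only; rw [S.χ_spec, h, zero_smul, smul_zero]))

theorem χ_inj : Function.Injective S.χ := fun a b h =>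
  Subtype.ext (FaithfulSMul.eq_of_smul_eq_smul fun v : V => by rw [S.χ_spec, S.χ_spec, h])

theorem A_fix_trivial {a : H} (ha : a ∈ S.A) (hne : a ≠ 1) {v : V} (hv : a • v = v) : v = 0 := by
  by_contra h0
  refine hne (congrArg Subtype.val (S.χ_inj (a₁ := ⟨a, ha⟩) (a₂ := 1) ?_))
  rw [S.χ_one]
  exact smul_left_injective K h0 (show S.χ ⟨a, ha⟩ • v = (1 : K) • v by
    rw [← S.χ_spec, one_smul]; exact hv)

theorem card_A_lt : Nat.card S.A < Nat.card K := by
  classical
  have : Fintype K := Fintype.ofFinite K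
  have : Fintype S.A := Fintype.ofFinite _
  rw [Nat.card_eq_fintype_card, Nat.card_eq_fintype_card]
  exact Fintype.card_lt_of_injective_not_surjective S.χ S.χ_inj
    (fun h => by obtain ⟨a, ha⟩ := h 0; exact S.χ_ne a ha)

theorem σ_sq (h : H) (c : K) (h2 : S.σ h (S.σ h c) = c) : S.σ h c = c := by
  let inst : MulAction H K :=
    { smul := fun g x => S.σ g x, one_smul := S.σ_one, mul_smul := S.σ_comp }
  exact smul_eq_of_sq S.odd h c h2

theorem moved_three (h : H) (hh : h ∉ S.C) :
    ∃ t : K, S.σ h t ≠ t ∧ S.σ h (S.σ h t) ≠ t ∧ S.σ h (S.σ h t) ≠ S.σ h t := by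
  rw [S.mem_C_iff] at hh
  push Not at hh
  obtain ⟨t, ht⟩ := hh
  refine ⟨t, ht, fun h2 => ht (S.σ_sq h t h2), fun h3 => ht ?_⟩
  have := congrArg (S.σ h⁻¹) h3
  rwa [← S.σ_comp h⁻¹ h, ← S.σ_comp h⁻¹ h, inv_mul_cancel, S.σ_one, S.σ_one] at this

theorem weight_outside (h : H) (hh : h ∉ S.C) :
    Nat.card {v : V // h • v = v} ^ 3 ≤ Nat.card V := by
  obtain ⟨t, h1, h2, h3⟩ := S.moved_three h hh
  exact card_fixed_semilinear (DistribSMul.toAddMonoidHom V h) (S.σ h) (S.smul_comm' h) (S.σ_mul h)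
    t h1 h2 h3

theorem card_ge_eight (h : H) (hh : h ∉ S.C) : 8 ≤ Nat.card K := by
  obtain ⟨t, h1, h2, h3⟩ := S.moved_three h hh
  have hadd : ∀ c d : K, S.σ h (c + d) = S.σ h c + S.σ h d := fun c d => scal_eq (V := V) fun v => by
    obtain ⟨w, rfl⟩ := MulAction.surjective h v
    rw [← S.smul_comm', add_smul, smul_add, S.smul_comm', S.smul_comm', add_smul]
  have := card_fixed_semilinear (V := K) (AddMonoidHom.mk' (S.σ h) hadd) (S.σ h) (S.σ_mul h)
    (S.σ_mul h) t h1 h2 h3
  have h01 : 2 ≤ Nat.card {c : K // S.σ h c = c} := by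
    have : Nontrivial {c : K // S.σ h c = c} :=
      ⟨⟨⟨0, S.σ_zero h⟩, ⟨1, S.σ_unit h⟩, fun e => zero_ne_one (congrArg Subtype.val e)⟩⟩
    exact Finite.one_lt_card
  calc 8 = 2 ^ 3 := by norm_num
    _ ≤ Nat.card {c : K // S.σ h c = c} ^ 3 := Nat.pow_le_pow_left h01 3
    _ ≤ Nat.card K := this

theorem exists_generator : ∃ θ : K, ∀ c : K, c = 0 ∨ ∃ j : ℕ, c = θ ^ j := by
  obtain ⟨g, hg⟩ := IsCyclic.exists_monoid_generator (α := Kˣ)
  refine ⟨g, fun c => ?_⟩
  by_cases hc : c = 0
  · exact Or.inl hc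
  · obtain ⟨j, hj⟩ := Submonoid.mem_powers_iff _ _ |>.mp (hg (Units.mk0 c hc))
    exact Or.inr ⟨j, by simpa using (congrArg Units.val hj).symm⟩

theorem σ_eq_of_generator {θ : K} (hθ : ∀ c : K, c = 0 ∨ ∃ j : ℕ, c = θ ^ j) {h : H}
    (h1 : S.σ h θ = θ) : h ∈ S.C := by
  rw [S.mem_C_iff]
  intro c
  rcases hθ c with rfl | ⟨j, rfl⟩
  · exact S.σ_zero h
  · rw [S.σ_pow, h1]

theorem index_C_le : S.C.index ≤ Nat.card K := by
  obtain ⟨θ, hθ⟩ := exists_generator (K := K)
  rw [Subgroup.index_eq_card]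
  refine Nat.card_le_card_of_injective (fun q => S.σ (Quotient.out q) θ) fun a b hab => ?_
  have hm : (Quotient.out a)⁻¹ * Quotient.out b ∈ S.C := by
    refine S.σ_eq_of_generator hθ ?_
    change S.σ (Quotient.out a) θ = S.σ (Quotient.out b) θ at hab
    rw [S.σ_comp, ← hab, ← S.σ_comp, inv_mul_cancel, S.σ_one]
  rw [← QuotientGroup.out_eq' a, ← QuotientGroup.out_eq' b]
  exact QuotientGroup.eq.mpr hm

omit [Nontrivial V] in
theorem card_V : Nat.card V = Nat.card K ^ Module.finrank K V := Module.natCard_eq_pow_finrank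


/-- squared size of the fixed space of a linear element -/
theorem card_fixed_linear {h : H} (hh : h ∈ S.C) :
    ∃ d, Nat.card {v : V // h • v = v} = Nat.card K ^ d ∧ d ≤ Module.finrank K V := by
  let F : Submodule K V :=
    { carrier := {v | h • v = v}
      zero_mem' := smul_zero h
      add_mem' := fun {a b} (ha : h • a = a) (hb : h • b = b) => by
        show h • (a + b) = a + b
        rw [smul_add, ha, hb]
      smul_mem' := fun c v (hv : h • v = v) => by
        show h • (c • v) = c • v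
        rw [S.C_linear hh, hv] }
  exact ⟨Module.finrank K F, Module.natCard_eq_pow_finrank (K := K) (V := F), Submodule.finrank_le F⟩

theorem two_le_card : 2 ≤ Nat.card K := Finite.one_lt_card

/-- the case of an abelian centraliser -/
theorem pair_of_C_eq (hC : S.C = S.A) :
    ∃ v w : V, ∀ h : H, h • v = v → h • w = w → ∀ x : V, h • x = x := by
  classical
  obtain ⟨n, hn⟩ : ∃ n, n = Module.finrank K V := ⟨_, rfl⟩
  obtain ⟨v, hv⟩ := exists_ne (0 : V)
  by_cases hn1 : n = 1
  · obtain ⟨θ, hθ⟩ := exists_generator (K := K)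
    refine ⟨v, θ • v, fun h h1 h2 x => ?_⟩
    rw [S.smul_comm', h1] at h2
    have hh := S.σ_eq_of_generator hθ (smul_left_injective K hv h2)
    obtain ⟨c, rfl⟩ := exists_smul_eq_of_finrank_eq_one (hn ▸ hn1) hv x
    rw [S.C_linear hh, h1]
  · have : Fintype H := Fintype.ofFinite H
    refine pair_of_count S.odd ?_
    set Q := Nat.card K with hQ
    have hn2 : 2 ≤ n := by have := Module.finrank_pos (R := K) (M := V); omega
    have hcard : Nat.card H ≤ Q * (Q - 1) := by
      rw [← Subgroup.card_mul_index S.C, mul_comm]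
      refine Nat.mul_le_mul S.index_C_le ?_
      rw [hC]; have := S.card_A_lt; omega
    have hb : ∀ h ∈ Finset.univ.erase (1 : H), pairWeight V h ≤ Q ^ ((2 * n + 2) / 3) := by
      intro h hne
      have hne1 : h ≠ 1 := (Finset.mem_erase.mp hne).1
      by_cases hh : h ∈ S.C
      · rw [hC] at hh
        have : Subsingleton {v : V // h • v = v} :=
          ⟨fun a b => Subtype.ext ((S.A_fix_trivial hh hne1 a.2).trans (S.A_fix_trivial hh hne1 b.2).symm)⟩
        rw [pairWeight, Finite.card_le_one_iff_subsingleton.mpr this |>.antisymm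
          (Nat.one_le_iff_ne_zero.mpr (Nat.card_ne_zero.mpr ⟨⟨⟨0, smul_zero h⟩⟩, inferInstance⟩)),
          one_pow]
        exact Nat.one_le_pow _ _ (by have := two_le_card (K := K); omega)
      · refine (Nat.pow_le_pow_iff_left (by norm_num : 3 ≠ 0)).mp ?_
        rw [pairWeight, ← pow_mul, ← pow_mul]
        calc Nat.card {v : V // h • v = v} ^ (2 * 3)
            = (Nat.card {v : V // h • v = v} ^ 3) ^ 2 := by rw [← pow_mul]
          _ ≤ Nat.card V ^ 2 := Nat.pow_le_pow_left (S.weight_outside h hh) 2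
          _ = Q ^ (2 * n) := by rw [card_V (K := K) (V := V), ← hn, ← pow_mul, mul_comm n]
          _ ≤ _ := Nat.pow_le_pow_right (by have := two_le_card (K := K); omega) (by omega)
    calc ∑ g ∈ Finset.univ.erase (1 : H), pairWeight V g
        ≤ (Finset.univ.erase (1 : H)).card • Q ^ ((2 * n + 2) / 3) :=
          Finset.sum_le_card_nsmul _ _ _ hb
      _ ≤ (Q * Q) * Q ^ ((2 * n + 2) / 3) := by
          rw [smul_eq_mul]
          refine Nat.mul_le_mul_right _ (le_trans ?_ (hcard.trans (Nat.mul_le_mul_left _ (Nat.sub_le _ _))))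
          rw [Nat.card_eq_fintype_card]; exact Finset.card_le_univ _
      _ = Q ^ (2 + (2 * n + 2) / 3) := by rw [pow_add, sq]
      _ ≤ Q ^ (2 * n) := Nat.pow_le_pow_right (by have := two_le_card (K := K); omega) (by omega)
      _ < _ := by
          rw [card_V (K := K) (V := V), ← hn, ← hQ, ← pow_add, two_mul n]
          have : 0 < Q ^ (n + n) := by have := two_le_card (K := K); positivity
          omega

end Setup

end CfsgLib.BaseTwo
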